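import Mathlib
import Cfsg.Agent.Omega.EH3.Cons
import Mathlib.GroupTheory.Transfer

section


/-!
# Near-TI lemmas for the point-line system of a large extraspecial 2-group (helper947)

`Sys b H X D e`: `V` over `F₂` with an alternating nondegenerate form `b`, `H ≤ Sp(V)`, a vector `e`, an
isotropic subspace `D ∋ e`, an elementary abelian subgroup `X ≤ C_H(e)`, normal in `C_H(e)`, with
`[e^⊥, X] ≤ D`, `[D, X] ≤ ⟨e⟩`, inducing all transvections with centre `e` on `D`, and regular on the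
cosets of `D` outside `e^⊥` (blueprint `OMEGA-FF2b-helper947.md`, (N1)-(N4)).

* `exists_add_eq` (N1): `e ∈ [V, f]` for `1 ≠ f ∈ X`;
* `eq_of_not_mem` (N2): `|X ∩ X^h| ≤ 2` if `h e ∉ D`;
* `Pts`, `Pts.mem_D`, `Pts.add` (N3);
* `fix_of_normalize` (N4): an element of `H` normalising `X` fixes `e`;
* `pow_four_of_cent`: an element of `H` centralising `X` has `f ^ 4 = 1`.
-/

set_option autoImplicit false

namespace Cfsg.Agent.Omega.W5.NearTI

variable {V : Type*} [AddCommGroup V] [Module (ZMod 2) V]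

structure Sys (b : LinearMap.BilinForm (ZMod 2) V) (H X : Subgroup (V ≃ₗ[ZMod 2] V))
    (D : Submodule (ZMod 2) V) (e : V) : Prop where
  alt : ∀ v, b v v = 0
  comm : ∀ v w, b v w = b w v
  nondeg : ∀ v, (∀ w, b v w = 0) → v = 0
  inv : ∀ h ∈ H, ∀ v w, b (h v) (h w) = b v w
  X_le : X ≤ H
  ne : e ≠ 0
  mem : e ∈ D
  X_e : ∀ f ∈ X, f e = e
  X_D : ∀ f ∈ X, ∀ d ∈ D, f d = d ∨ f d = d + e
  X_perp : ∀ f ∈ X, ∀ v, b e v = 0 → f v + v ∈ D
  X_sq : ∀ f ∈ X, f * f = 1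
  X_comm : ∀ f ∈ X, ∀ g ∈ X, f * g = g * f
  normal : ∀ h ∈ H, h e = e → ∀ f ∈ X, h * f * h⁻¹ ∈ X
  D_inv : ∀ h ∈ H, h e = e → ∀ d ∈ D, h d ∈ D
  full : ∀ φ : V →ₗ[ZMod 2] ZMod 2, φ e = 0 → ∃ f ∈ X, ∀ d ∈ D, f d = d + φ d • e
  free : ∀ f ∈ X, ∀ v, b e v = 1 → f v + v ∈ D → f = 1
  surj : ∀ v s, b e v = 1 → b e s = 0 → ∃ f ∈ X, f v + v + s ∈ D
  D_iso : ∀ v ∈ D, ∀ w ∈ D, b v w = 0

theorem two (c : ZMod 2) : c = 0 ∨ c = 1 := by revert c; decide

theorem two_ne {c : ZMod 2} (h : c ≠ 0) : c = 1 := by revert c; decide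

theorem self (v : V) : v + v = 0 := by
  have h : (2 : ZMod 2) • v = v + v := two_smul _ v
  rw [← h, show (2 : ZMod 2) = 0 from rfl, zero_smul]

theorem eq_add_iff {u v w : V} : u = v + w ↔ u + v = w := by
  constructor
  · rintro rfl
    rw [add_right_comm, self, zero_add]
  · rintro rfl
    rw [add_left_comm, self, add_zero]

theorem cancel (u v : V) : u + v + v = u := by rw [add_assoc, self, add_zero]

theorem inv_apply (f : V ≃ₗ[ZMod 2] V) (v : V) : f⁻¹ (f v) = v := f.symm_apply_apply v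

theorem apply_inv (f : V ≃ₗ[ZMod 2] V) (v : V) : f (f⁻¹ v) = v := f.apply_symm_apply v

theorem mul_apply (f g : V ≃ₗ[ZMod 2] V) (v : V) : (f * g) v = f (g v) := rfl

/-- a functional separating a nonzero vector -/
theorem exists_functional {e d : V} (h0 : d ≠ 0) (he : d ≠ e) :
    ∃ φ : V →ₗ[ZMod 2] ZMod 2, φ e = 0 ∧ φ d = 1 := by
  have h1 : d ∉ Submodule.span (ZMod 2) {e} := by
    rw [Submodule.mem_span_singleton]
    rintro ⟨c, hc⟩
    rcases two c with rfl | rfl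
    · rw [zero_smul] at hc; exact h0 hc.symm
    · rw [one_smul] at hc; exact he hc.symm
  obtain ⟨f, hf, hf'⟩ := Submodule.exists_le_ker_of_notMem h1
  exact ⟨f, hf' (Submodule.mem_span_singleton_self e), two_ne hf⟩

theorem mem_of_forall [Finite V] {b : LinearMap.BilinForm (ZMod 2) V} (hn : b.Nondegenerate)
    (hr : b.IsRefl) (W : Submodule (ZMod 2) V) {v : V} (h : ∀ w, (∀ x ∈ W, b x w = 0) → b w v = 0) :
    v ∈ W := by
  have : Module.Finite (ZMod 2) V := Module.Finite.of_finite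
  rw [← LinearMap.BilinForm.orthogonal_orthogonal hn hr W, LinearMap.BilinForm.mem_orthogonal_iff]
  intro w hw
  exact h w fun x hx => (LinearMap.BilinForm.mem_orthogonal_iff.1 hw) x hx

variable {b : LinearMap.BilinForm (ZMod 2) V} {H X : Subgroup (V ≃ₗ[ZMod 2] V)}
  {D : Submodule (ZMod 2) V} {e : V}

namespace Sys

theorem nondegenerate (S : Sys b H X D e) : b.Nondegenerate :=
  ⟨fun v hv => S.nondeg v hv, fun v hv => S.nondeg v fun w => by rw [S.comm]; exact hv w⟩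

theorem isRefl (S : Sys b H X D e) : b.IsRefl := fun v w hvw => by rw [S.comm]; exact hvw

theorem exists_one (S : Sys b H X D e) : ∃ v, b e v = 1 := by
  by_contra hcon
  push Not at hcon
  apply S.ne
  apply S.nondeg
  intro w
  rcases two (b e w) with h | h
  · exact h
  · exact absurd h (hcon w)

theorem b_e_X (S : Sys b H X D e) {f : V ≃ₗ[ZMod 2] V} (hf : f ∈ X) (v : V) :
    b e (f v) = b e v := by
  nth_rewrite 1 [← S.X_e f hf]
  exact S.inv f (S.X_le hf) _ _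

theorem b_e_delta (S : Sys b H X D e) {f : V ≃ₗ[ZMod 2] V} (hf : f ∈ X) (v : V) :
    b e (f v + v) = 0 := by
  rw [map_add, S.b_e_X hf, ← two_mul, show (2 : ZMod 2) = 0 from rfl, zero_mul]

theorem b_e_D (S : Sys b H X D e) {d : V} (hd : d ∈ D) : b e d = 0 := S.D_iso e S.mem d hd

theorem X_D_mem (S : Sys b H X D e) {f : V ≃ₗ[ZMod 2] V} (hf : f ∈ X) {d : V} (hd : d ∈ D) :
    f d ∈ D := by
  rcases S.X_D f hf d hd with h | h
  · rw [h]; exact hd
  · rw [h]; exact D.add_mem hd S.mem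

/-- (N1) `e ∈ [V, f]` for `1 ≠ f ∈ X` -/
theorem exists_add_eq [Finite V] (S : Sys b H X D e) {f : V ≃ₗ[ZMod 2] V} (hf : f ∈ X)
    (h1 : f ≠ 1) : ∃ u, f u + u = e := by
  let W : Submodule (ZMod 2) V := LinearMap.range ((f : V →ₗ[ZMod 2] V) + LinearMap.id)
  have hW : ∀ v, f v + v ∈ W := fun v => ⟨v, rfl⟩
  have h2 : e ∈ W := by
    apply mem_of_forall S.nondegenerate S.isRefl W
    intro w hw
    have h3 : f⁻¹ w = w := by
      have h4 : f⁻¹ w + w = 0 := by
        apply S.nondeg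
        intro u
        have h5 := hw _ (hW u)
        rw [map_add, LinearMap.add_apply] at h5 ⊢
        rw [← S.inv f (S.X_le hf) (f⁻¹ w) u, apply_inv, S.comm w, S.comm w u]
        exact h5
      calc f⁻¹ w = w + 0 := eq_add_iff.2 h4
        _ = w := add_zero w
    have h4 : f w = w := by
      nth_rewrite 1 [← h3]; exact apply_inv f w
    rw [S.comm]
    rcases two (b e w) with h5 | h5
    · exact h5
    · exfalso
      apply h1
      apply S.free f hf w h5
      rw [h4, self]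
      exact D.zero_mem
  obtain ⟨u, hu⟩ := h2
  exact ⟨u, hu⟩

/-- (N2) near-TI -/
theorem eq_of_not_mem [Finite V] (S : Sys b H X D e) {h f g : V ≃ₗ[ZMod 2] V}
    (hf : f ∈ X) (hg : g ∈ X) (hf1 : f ≠ 1) (hg1 : g ≠ 1)
    (hf' : h⁻¹ * f * h ∈ X) (hg' : h⁻¹ * g * h ∈ X) (hD : h e ∉ D) : f = g := by
  have key : ∀ f : V ≃ₗ[ZMod 2] V, f ∈ X → f ≠ 1 → h⁻¹ * f * h ∈ X →
      ∃ u, b e u = 1 ∧ f u + u = h e := by
    intro f hf hf1 hf'
    obtain ⟨u, hu⟩ := S.exists_add_eq hf' (by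
      intro h1
      apply hf1
      have : f = h * (h⁻¹ * f * h) * h⁻¹ := by group
      rw [this, h1]; group)
    have h2 : f (h u) + h u = h e := by
      rw [← hu, map_add]
      congr 1
      exact (apply_inv h _).symm
    refine ⟨h u, ?_, h2⟩
    rcases two (b e (h u)) with h3 | h3
    · exfalso
      apply hD
      rw [← h2]
      exact S.X_perp f hf _ h3
    · exact h3
  obtain ⟨u, hu, hu'⟩ := key f hf hf1 hf'
  obtain ⟨w, hw, hw'⟩ := key g hg hg1 hg'
  -- compare `f` and `g` at `u`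
  have h1 : g (u + w) + (u + w) ∈ D := S.X_perp g hg _ (by
    rw [map_add, hu, hw]; rfl)
  have h2 : g u + u + h e ∈ D := by
    have : g u + u + h e = g (u + w) + (u + w) := by
      rw [← hw', map_add]; abel
    rw [this]; exact h1
  have h3 : f u + g u ∈ D := by
    have : f u + g u = g u + u + h e := by
      rw [← hu']
      have : g u + u + (f u + u) = f u + g u + (u + u) := by abel
      rw [this, self, add_zero]
    rw [this]; exact h2
  have h4 : (g⁻¹ * f) u + u ∈ D := by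
    have : (g⁻¹ * f) u + u = g⁻¹ (f u + g u) := by
      rw [map_add, inv_apply]; rfl
    rw [this]
    exact S.X_D_mem (X.inv_mem hg) h3
  have h5 := S.free _ (X.mul_mem (X.inv_mem hg) hf) u hu h4
  exact (inv_mul_eq_one.1 h5).symm

end Sys

/-- the points `h e` whose group `X ^ h` contains `B` -/
def Pts (H X : Subgroup (V ≃ₗ[ZMod 2] V)) (e : V) (B : Set (V ≃ₗ[ZMod 2] V)) : Set V :=
  {v | ∃ h ∈ H, h e = v ∧ ∀ f ∈ B, h⁻¹ * f * h ∈ X}

namespace Sys

/-- (N3) two points of `Pts B` are collinear -/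
theorem mem_D_of_pts [Finite V] (S : Sys b H X D e) {B : Set (V ≃ₗ[ZMod 2] V)}
    {f g : V ≃ₗ[ZMod 2] V} (hf : f ∈ B) (hg : g ∈ B) (hf1 : f ≠ 1) (hg1 : g ≠ 1) (hfg : f ≠ g)
    {h k : V ≃ₗ[ZMod 2] V} (hh : ∀ f ∈ B, h⁻¹ * f * h ∈ X)
    (hk : ∀ f ∈ B, k⁻¹ * f * k ∈ X) : h⁻¹ (k e) ∈ D := by
  by_contra hD
  apply hfg
  have hne : ∀ f : V ≃ₗ[ZMod 2] V, f ≠ 1 → h⁻¹ * f * h ≠ 1 := by
    intro f hf h1
    apply hf
    have : f = h * (h⁻¹ * f * h) * h⁻¹ := by group
    rw [this, h1]; group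
  have h3 := S.eq_of_not_mem (h := h⁻¹ * k) (hh f hf) (hh g hg) (hne f hf1) (hne g hg1)
    (by
      have : (h⁻¹ * k)⁻¹ * (h⁻¹ * f * h) * (h⁻¹ * k) = k⁻¹ * f * k := by group
      rw [this]; exact hk f hf)
    (by
      have : (h⁻¹ * k)⁻¹ * (h⁻¹ * g * h) * (h⁻¹ * k) = k⁻¹ * g * k := by group
      rw [this]; exact hk g hg) hD
  have h4 : f = h * (h⁻¹ * f * h) * h⁻¹ := by group
  rw [h4, h3]; group

/-- if `h⁻¹ w ∈ D` for points `h e ≠ w` then some conjugate of an element of `X` under `h` moves `w`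
to `w + h e` and centralises `X^h` -/
theorem exists_move (S : Sys b H X D e) {h : V ≃ₗ[ZMod 2] V} {w : V}
    (hD : h⁻¹ w ∈ D) (h0 : w ≠ 0) (hne : w ≠ h e) :
    ∃ x ∈ X, (h * x * h⁻¹) w = w + h e := by
  obtain ⟨φ, h1, h2⟩ := exists_functional (e := e) (d := h⁻¹ w)
    (by
      intro h3
      apply h0
      have := apply_inv h w
      rw [h3, map_zero] at this
      exact this.symm)
    (by
      intro h3
      apply hne
      rw [← h3, apply_inv])
  obtain ⟨x, hx, hx'⟩ := S.full φ h1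
  refine ⟨x, hx, ?_⟩
  have h3 := hx' _ hD
  rw [h2, one_smul] at h3
  show h (x (h⁻¹ w)) = w + h e
  rw [h3, map_add, apply_inv]

/-- (N3) `Pts B ∪ {0}` is closed under addition -/
theorem pts_add [Finite V] (S : Sys b H X D e) {B : Set (V ≃ₗ[ZMod 2] V)}
    {f g : V ≃ₗ[ZMod 2] V} (hf : f ∈ B) (hg : g ∈ B) (hf1 : f ≠ 1) (hg1 : g ≠ 1) (hfg : f ≠ g)
    {v w : V} (hv : v ∈ Pts H X e B) (hw : w ∈ Pts H X e B) (hvw : v ≠ w) :
    v + w ∈ Pts H X e B := by
  obtain ⟨h, hh, rfl, hhB⟩ := hv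
  obtain ⟨k, hk, rfl, hkB⟩ := hw
  have hD := S.mem_D_of_pts hf hg hf1 hg1 hfg hhB hkB
  obtain ⟨x, hx, hxw⟩ := S.exists_move (h := h) (w := k e) hD
    (by
      intro h1
      apply S.ne
      have := inv_apply k e
      rw [h1, map_zero] at this
      exact this.symm)
    (fun h1 => hvw h1.symm)
  refine ⟨h * x * h⁻¹ * k, H.mul_mem (H.mul_mem (H.mul_mem hh (S.X_le hx)) (H.inv_mem hh)) hk, ?_, ?_⟩
  · show (h * x * h⁻¹) (k e) = h e + k e
    rw [hxw, add_comm]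
  · intro f hf
    have h1 := S.X_comm _ hx _ (hhB f hf)
    have h2 : (h * x * h⁻¹) * f = f * (h * x * h⁻¹) := by
      calc (h * x * h⁻¹) * f = h * (x * (h⁻¹ * f * h)) * h⁻¹ := by group
        _ = h * ((h⁻¹ * f * h) * x) * h⁻¹ := by rw [h1]
        _ = f * (h * x * h⁻¹) := by group
    have h3 : (h * x * h⁻¹ * k)⁻¹ * f * (h * x * h⁻¹ * k) = k⁻¹ * f * k := by
      calc (h * x * h⁻¹ * k)⁻¹ * f * (h * x * h⁻¹ * k)
          = k⁻¹ * (h * x * h⁻¹)⁻¹ * (f * (h * x * h⁻¹)) * k := by group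
        _ = k⁻¹ * (h * x * h⁻¹)⁻¹ * ((h * x * h⁻¹) * f) * k := by rw [h2]
        _ = k⁻¹ * f * k := by group
    rw [h3]; exact hkB f hf

/-- (N4) an element of `H` normalising `X` fixes `e`, provided `X` has two nontrivial elements -/
theorem fix_of_normalize [Finite V] (S : Sys b H X D e) {f g : V ≃ₗ[ZMod 2] V} (hf : f ∈ X)
    (hg : g ∈ X) (hf1 : f ≠ 1) (hg1 : g ≠ 1) (hfg : f ≠ g) {k : V ≃ₗ[ZMod 2] V}
    (hN : ∀ x ∈ X, k⁻¹ * x * k ∈ X) : k e = e := by
  by_contra hne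
  have hD := S.mem_D_of_pts (B := (X : Set (V ≃ₗ[ZMod 2] V))) (h := 1) (k := k) hf hg hf1 hg1 hfg
    (fun f hf => by
      have : (1 : V ≃ₗ[ZMod 2] V)⁻¹ * f * 1 = f := by group
      rw [this]; exact hf) (fun x hx => hN x hx)
  obtain ⟨x, hx, hxw⟩ := S.exists_move (h := 1) (w := k e) hD
    (by
      intro h1
      apply S.ne
      have := inv_apply k e
      rw [h1, map_zero] at this
      exact this.symm) (fun h1 => hne (h1.trans rfl))
  have h1 : x (k e) = k e + e := by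
    have : (1 * x * (1 : V ≃ₗ[ZMod 2] V)⁻¹) = x := by group
    rw [this] at hxw
    exact hxw
  have h2 : x (k e) = k e := by
    have h3 := S.X_e _ (hN x hx)
    have h4 : k ((k⁻¹ * x * k) e) = x (k e) := apply_inv k _
    rw [← h4, h3]
  rw [h2] at h1
  have := eq_add_iff.1 h1
  rw [self] at this
  exact S.ne this.symm

/-- an element of `H` centralising `X` satisfies `c ^ 4 = 1` -/
theorem pow_four_of_cent [Finite V] (S : Sys b H X D e) {c : V ≃ₗ[ZMod 2] V} (hc : c ∈ H)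
    (hce : c e = e) (hX : ∀ x ∈ X, c * x = x * c) : c ^ 4 = 1 := by
  have hcx : ∀ x ∈ X, ∀ v, c (x v) = x (c v) := fun x hx v =>
    congrArg (fun g : V ≃ₗ[ZMod 2] V => g v) (hX x hx)
  have hb : ∀ v, b e (c v) = b e v := by
    intro v
    nth_rewrite 1 [← hce]
    exact S.inv c hc _ _
  obtain ⟨v0, hv0⟩ := S.exists_one
  -- (1) on `V / e^⊥`
  have s1 : ∀ v, b e (c v + v) = 0 := by
    intro v
    rw [map_add, hb, ← two_mul, show (2 : ZMod 2) = 0 from rfl, zero_mul]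
  -- (2) on `e^⊥ / D`
  have s2 : ∀ s, b e s = 0 → c s + s ∈ D := by
    intro s hs
    obtain ⟨f, hf, hfs⟩ := S.surj v0 s hv0 hs
    -- `s = f v0 + v0 + d`
    have h1 : c (f v0 + v0 + s) ∈ D := S.D_inv c hc hce _ hfs
    have h2 : f (c v0 + v0) + (c v0 + v0) ∈ D := S.X_perp f hf _ (s1 v0)
    have h3 : c s + s = c (f v0 + v0 + s) + (f v0 + v0 + s) + (f (c v0 + v0) + (c v0 + v0)) := by
      rw [map_add, map_add, map_add, hcx f hf]
      have : f (c v0) + c v0 + c s + (f v0 + v0 + s) + (f (c v0) + f v0 + (c v0 + v0)) =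
        c s + s + ((f (c v0) + f (c v0)) + (c v0 + c v0) + (f v0 + f v0) + (v0 + v0)) := by abel
      rw [this]
      simp only [self, add_zero]
    rw [h3]
    exact D.add_mem (D.add_mem h1 hfs) h2
  -- (3) on `D / ⟨e⟩`
  have s3 : ∀ d ∈ D, c d + d = 0 ∨ c d + d = e := by
    intro d hd
    by_contra hcon
    push Not at hcon
    have hcd : c d + d ∈ D := D.add_mem (S.D_inv c hc hce d hd) hd
    obtain ⟨x, hx, hxw⟩ := S.exists_move (h := 1) (w := c d + d) hcd hcon.1 hcon.2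
    have e1 : (1 * x * (1 : V ≃ₗ[ZMod 2] V)⁻¹) = x := by group
    rw [e1, show (1 : V ≃ₗ[ZMod 2] V) e = e from rfl] at hxw
    have h1 : x (c d + d) = c d + d := by
      rw [map_add, ← hcx x hx]
      rcases S.X_D x hx d hd with h2 | h2
      · rw [h2]
      · rw [h2, map_add, hce]
        have : c d + e + (d + e) = c d + d + (e + e) := by abel
        rw [this, self, add_zero]
    rw [h1] at hxw
    have := eq_add_iff.1 hxw
    rw [self] at this
    exact S.ne this.symm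
  -- the nilpotent map `n = c + 1`
  have n4 : ∀ v, c (c (c (c v))) = v := by
    intro v
    have t : ∀ v, c (c v) + v = c (c v + v) + (c v + v) := by
      intro v
      rw [map_add]
      have : c (c v) + c v + (c v + v) = c (c v) + v + (c v + c v) := by abel
      rw [this, self, add_zero]
    -- `u = n^2 v ∈ D`
    have h1 : c (c v) + v ∈ D := by
      rw [t]; exact s2 _ (s1 v)
    -- `n^4 v = n^2 u = 0`
    have h2 : c (c (c (c v) + v)) + (c (c v) + v) = 0 := by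
      rw [t]
      rcases s3 _ h1 with h3 | h3
      · rw [h3, map_zero, add_zero]
      · rw [h3, hce, self]
    rw [map_add, map_add] at h2
    have h3 : c (c (c (c v))) + c (c v) + (c (c v) + v) = c (c (c (c v))) + v := by
      have : c (c (c (c v))) + c (c v) + (c (c v) + v) =
        c (c (c (c v))) + v + (c (c v) + c (c v)) := by abel
      rw [this, self, add_zero]
    rw [h3] at h2
    have := eq_add_iff.2 h2
    rw [add_zero] at this
    have h5 : c (c (c (c v))) + v + v = 0 + v := by rw [h2]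
    rw [cancel, zero_add] at h5
    exact h5
  ext v
  exact n4 v

end Sys

end Cfsg.Agent.Omega.W5.NearTI

end

section


/-!
# EH3: the configuration gives helper947's system `Sys` (helper888)
-/

set_option autoImplicit false

namespace Cfsg.Agent.Omega.EH3.Cfg

open Cfsg.Agent.Omega.W5.NearTI

variable {H V : Type*} [Group H] [AddCommGroup V] [Module (ZMod 2) V]
  {ρ : H →* (V ≃ₗ[ZMod 2] V)} {b : LinearMap.BilinForm (ZMod 2) V} {q : V → ZMod 2}
  {a : V} {D : Submodule (ZMod 2) V} {X : Subgroup H} {w : ℕ}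

/-- **`Cfg ⇒ Sys`** -/
theorem sys (C : Cfg ρ b q a D X w) : Sys b ρ.range (X.map ρ) D a where
  alt := C.b_self
  comm := C.b_comm
  nondeg := C.nondeg
  inv := by rintro _ ⟨h, rfl⟩ v u; exact C.b_inv h v u
  X_le := by rintro _ ⟨x, -, rfl⟩; exact ⟨x, rfl⟩
  ne := C.a_ne
  mem := C.a_mem
  X_e := by rintro _ ⟨x, hx, rfl⟩; exact C.X_a hx
  X_D := by rintro _ ⟨x, hx, rfl⟩ d hd; exact C.X_D x hx d hd
  X_perp := by rintro _ ⟨x, hx, rfl⟩ v hv; exact C.X_perp x hx v hv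
  X_sq := by rintro _ ⟨x, hx, rfl⟩; rw [← map_mul, C.X_sq x hx, map_one]
  X_comm := by rintro _ ⟨x, hx, rfl⟩ _ ⟨y, hy, rfl⟩; rw [← map_mul, ← map_mul, C.X_comm hx hy]
  normal := by
    rintro _ ⟨h, rfl⟩ ha _ ⟨x, hx, rfl⟩
    exact ⟨h * x * h⁻¹, C.X_norm h ha x hx, by rw [map_mul, map_mul, map_inv]⟩
  D_inv := by rintro _ ⟨h, rfl⟩ ha d hd; exact C.D_inv h ha d hd
  full := by
    intro φ hφ
    obtain ⟨x, hx, h⟩ := C.X_all φ hφ
    exact ⟨ρ x, ⟨x, hx, rfl⟩, h⟩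
  free := by
    rintro _ ⟨x, hx, rfl⟩ v hv h
    rw [C.X_semi x hx v hv h, map_one]
  surj := by
    intro v s hv hs
    obtain ⟨x, hx, h⟩ := C.exists_sigma hv hs
    exact ⟨ρ x, ⟨x, hx, rfl⟩, h⟩
  D_iso := fun v hv u hu => C.b_D hv hu

end Cfsg.Agent.Omega.EH3.Cfg

end

section


/-!
# Normal subgroups of `H` centralised by two elements of `X` (helper947; blueprint (N5))

`Nor`: `N` is normal in `H` and centralised by two distinct nontrivial elements of `X`.
* `NorX`: the same for `N` normalised by `X` only; `NorX.cl`: the `N`-orbit of `e`, together with `0`, is closed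
  under addition; `NorX.exists_transv_three`: `N` induces all transvections on the span of the orbit if its
  dimension is at least three;
* `Nor.finrank_le` : if `|H : C_H(e)|` is odd and `b (e, h e) = 1` for some `h ∈ H`, the span of the `N`-orbit
  of `e` has dimension at most two (parity of the number of homogeneous components);
-/

set_option autoImplicit false

namespace Cfsg.Agent.Omega.W5.Parity

open Cfsg.Agent.Omega.W5.NearTI Module

variable {V : Type*} [AddCommGroup V] [Module (ZMod 2) V]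

/-- the span of the `N`-orbit of `v` -/
def U (N : Subgroup (V ≃ₗ[ZMod 2] V)) (v : V) : Submodule (ZMod 2) V :=
  Submodule.span (ZMod 2) {w | ∃ n ∈ N, n v = w}

/-- the orbit of `v`, with `0`, is closed under addition -/
def Cl (N : Subgroup (V ≃ₗ[ZMod 2] V)) (v : V) : Prop :=
  ∀ n ∈ N, ∀ m ∈ N, n v ≠ m v → ∃ k ∈ N, k v = n v + m v

/-- `N`-homomorphisms from `U N v` to `U N w` -/
def Sim (N : Subgroup (V ≃ₗ[ZMod 2] V)) (v w : V) : Prop :=
  ∃ θ : V →ₗ[ZMod 2] V, (∀ n ∈ N, θ (n v) = n (θ v)) ∧ ∃ m ∈ N, θ v = m w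

section abs

variable {N : Subgroup (V ≃ₗ[ZMod 2] V)}

theorem orb_mem {v : V} {n : V ≃ₗ[ZMod 2] V} (hn : n ∈ N) : n v ∈ U N v :=
  Submodule.subset_span ⟨n, hn, rfl⟩

theorem self_mem (v : V) : v ∈ U N v := orb_mem (n := 1) N.one_mem

theorem U_inv {v : V} {n : V ≃ₗ[ZMod 2] V} (hn : n ∈ N) {x : V} (hx : x ∈ U N v) :
    n x ∈ U N v := by
  induction hx using Submodule.span_induction with
  | mem x hx =>
    obtain ⟨m, hm, rfl⟩ := hx
    exact orb_mem (n := n * m) (N.mul_mem hn hm)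
  | zero => rw [map_zero]; exact (U N v).zero_mem
  | add x y _ _ hx hy => rw [map_add]; exact (U N v).add_mem hx hy
  | smul c x _ hx => rw [map_smul]; exact (U N v).smul_mem c hx

theorem mem_U {v : V} (h : Cl N v) {w : V} : w ∈ U N v ↔ w = 0 ∨ ∃ n ∈ N, n v = w := by
  constructor
  · intro hw
    induction hw using Submodule.span_induction with
    | mem x hx => exact Or.inr hx
    | zero => exact Or.inl rfl
    | add x y _ _ hx hy =>
      rcases hx with rfl | ⟨n, hn, rfl⟩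
      · rw [zero_add]; exact hy
      · rcases hy with rfl | ⟨m, hm, rfl⟩
        · rw [add_zero]; exact Or.inr ⟨n, hn, rfl⟩
        · by_cases hnm : n v = m v
          · left; rw [hnm, self]
          · exact Or.inr (h n hn m hm hnm)
    | smul c x _ hx =>
      rcases two c with rfl | rfl
      · left; rw [zero_smul]
      · rw [one_smul]; exact hx
  · rintro (rfl | ⟨n, hn, rfl⟩)
    · exact (U N v).zero_mem
    · exact orb_mem hn

/-- equivariance on the whole span -/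
theorem equi {v : V} {θ : V →ₗ[ZMod 2] V} (hθ : ∀ n ∈ N, θ (n v) = n (θ v)) {n : V ≃ₗ[ZMod 2] V}
    (hn : n ∈ N) {x : V} (hx : x ∈ U N v) : θ (n x) = n (θ x) := by
  induction hx using Submodule.span_induction with
  | mem x hx =>
    obtain ⟨m, hm, rfl⟩ := hx
    have h1 := hθ (n * m) (N.mul_mem hn hm)
    rw [mul_apply, mul_apply] at h1
    rw [h1, hθ m hm]
  | zero => simp only [map_zero]
  | add x y _ _ hx hy => simp only [map_add, hx, hy]
  | smul c x _ hx => simp only [map_smul, hx]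

theorem Sim.refl (v : V) : Sim N v v := ⟨LinearMap.id, fun _ _ => rfl, 1, N.one_mem, rfl⟩

theorem Sim.trans {u v w : V} (h1 : Sim N u v) (h2 : Sim N v w) : Sim N u w := by
  obtain ⟨θ, hθ, m, hm, hm'⟩ := h1
  obtain ⟨η, hη, k, hk, hk'⟩ := h2
  refine ⟨η ∘ₗ θ, fun n hn => ?_, m * k, N.mul_mem hm hk, ?_⟩
  · show η (θ (n u)) = n (η (θ u))
    rw [hθ n hn, hm', hη m hm, ← mul_apply n m v, hη _ (N.mul_mem hn hm)]
    rfl
  · show η (θ u) = m (k w)
    rw [hm', hη m hm, hk']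

theorem Sim.smul {v w : V} {h : V ≃ₗ[ZMod 2] V} (hN : ∀ n ∈ N, h * n * h⁻¹ ∈ N)
    (hN' : ∀ n ∈ N, h⁻¹ * n * h ∈ N) (h1 : Sim N v w) : Sim N (h v) (h w) := by
  obtain ⟨θ, hθ, m, hm, hm'⟩ := h1
  refine ⟨(h : V →ₗ[ZMod 2] V) ∘ₗ θ ∘ₗ (h⁻¹ : V ≃ₗ[ZMod 2] V), fun n hn => ?_, h * m * h⁻¹,
    hN m hm, ?_⟩
  · show h (θ (h⁻¹ (n (h v)))) = n (h (θ (h⁻¹ (h v))))
    have h2 : h⁻¹ (n (h v)) = (h⁻¹ * n * h) v := rfl
    rw [h2, hθ _ (hN' n hn), inv_apply]
    show h (h⁻¹ (n (h (θ v)))) = _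
    rw [apply_inv]
  · show h (θ (h⁻¹ (h v))) = h (m (h⁻¹ (h w)))
    rw [inv_apply, inv_apply, hm']

theorem map_U {v : V} {h : V ≃ₗ[ZMod 2] V} (hN : ∀ n ∈ N, h * n * h⁻¹ ∈ N)
    (hN' : ∀ n ∈ N, h⁻¹ * n * h ∈ N) :
    (U N v).map (h : V →ₗ[ZMod 2] V) = U N (h v) := by
  rw [U, U, Submodule.map_span]
  congr 1
  ext w
  constructor
  · rintro ⟨_, ⟨n, hn, rfl⟩, rfl⟩
    refine ⟨h * n * h⁻¹, hN n hn, ?_⟩
    show h (n (h⁻¹ (h v))) = h (n v)
    rw [inv_apply]
  · rintro ⟨n, hn, rfl⟩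
    refine ⟨(h⁻¹ * n * h) v, ⟨_, hN' n hn, rfl⟩, ?_⟩
    show h (h⁻¹ (n (h v))) = _
    rw [apply_inv]

theorem finrank_U {v : V} {h : V ≃ₗ[ZMod 2] V} (hN : ∀ n ∈ N, h * n * h⁻¹ ∈ N)
    (hN' : ∀ n ∈ N, h⁻¹ * n * h ∈ N) : finrank (ZMod 2) (U N (h v)) = finrank (ZMod 2) (U N v) := by
  rw [← map_U hN hN']
  exact LinearEquiv.finrank_map_eq h (U N v)

/-- duality -/
theorem Sim.dual [Finite V] {b : LinearMap.BilinForm (ZMod 2) V}
    (hb : ∀ n ∈ N, ∀ v w, b (n v) (n w) = b v w)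
    {v v' u u' : V} (hu' : Cl N u')
    (hdim : finrank (ZMod 2) (U N u') = finrank (ZMod 2) (U N v)) (h : Sim N v v')
    (h1 : b v u = 1) (h2 : b v' u' = 1) : Sim N u u' := by
  have : Module.Finite (ZMod 2) V := Module.Finite.of_finite
  obtain ⟨α, hα, m, hm, hm'⟩ := h
  -- `L y' = b (α ·, y')` on `U N v`
  let R : (W : Submodule (ZMod 2) V) → (V →ₗ[ZMod 2] V) →
      V →ₗ[ZMod 2] Module.Dual (ZMod 2) W := fun W α =>
    { toFun := fun y => (b.flip y).comp (α.comp W.subtype)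
      map_add' := by intro x y; ext w; simp
      map_smul' := by intro c y; ext w; simp }
  let L : U N u' →ₗ[ZMod 2] Module.Dual (ZMod 2) (U N v) := (R (U N v) α).comp (U N u').subtype
  have hL : ∀ (y : U N u') (x : U N v), L y x = b (α x) y := fun y x => rfl
  have hinj : Function.Injective L := by
    rw [← LinearMap.ker_eq_bot, LinearMap.ker_eq_bot']
    intro y hy
    rcases (mem_U hu').1 y.2 with h3 | ⟨n, hn, h3⟩
    · exact Subtype.ext h3
    · exfalso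
      have h4 : L y ⟨(n * m⁻¹) v, orb_mem (N.mul_mem hn (N.inv_mem hm))⟩ = 1 := by
        rw [hL]
        show b (α ((n * m⁻¹) v)) y = 1
        rw [hα _ (N.mul_mem hn (N.inv_mem hm)), hm', ← h3]
        show b (n (m⁻¹ (m v'))) (n u') = 1
        rw [inv_apply, hb n hn, h2]
      rw [hy] at h4
      exact zero_ne_one h4
  have hsur : Function.Surjective L := by
    apply (LinearMap.injective_iff_surjective_of_finrank_eq_finrank _).1 hinj
    rw [Subspace.dual_finrank_eq, hdim]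
  let E := LinearEquiv.ofBijective L ⟨hinj, hsur⟩
  have hE : ∀ φ, L (E.symm φ) = φ := fun φ => E.apply_symm_apply φ
  let ψ : V →ₗ[ZMod 2] V := (U N u').subtype ∘ₗ (E.symm : _ →ₗ[ZMod 2] _) ∘ₗ R (U N v) LinearMap.id
  have hψ : ∀ y (x : V), x ∈ U N v → b (α x) (ψ y) = b x y := by
    intro y x hx
    have h3 := hE (R (U N v) LinearMap.id y)
    have h4 := congrArg (fun φ : Module.Dual (ZMod 2) (U N v) => φ ⟨x, hx⟩) h3
    exact h4
  have hψm : ∀ y, ψ y ∈ U N u' := fun y => (E.symm _).2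
  refine ⟨ψ, fun n hn => ?_, ?_⟩
  · have h3 : (⟨ψ (n u), hψm _⟩ : U N u') = ⟨n (ψ u), U_inv hn (hψm u)⟩ := by
      apply hinj
      ext x
      rw [hL, hL]
      show b (α x) (ψ (n u)) = b (α x) (n (ψ u))
      rw [hψ _ _ x.2]
      have h4 : b (α x) (n (ψ u)) = b (n⁻¹ (α x)) (ψ u) := by
        rw [← hb n hn (n⁻¹ (α x)) (ψ u), apply_inv]
      rw [h4, ← equi hα (N.inv_mem hn) x.2, hψ _ _ (U_inv (N.inv_mem hn) x.2),
        ← hb n hn (n⁻¹ (x : V)) u, apply_inv]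
    exact congrArg Subtype.val h3
  · rcases (mem_U hu').1 (hψm u) with h3 | ⟨n, hn, h3⟩
    · exfalso
      have h4 := hψ u v (self_mem v)
      rw [h3, map_zero, h1] at h4
      exact zero_ne_one h4
    · exact ⟨n, hn, h3.symm⟩

end abs

/-- `N ≤ H` normalised by `X`, centralised by two nontrivial elements of `X` -/
structure NorX (b : LinearMap.BilinForm (ZMod 2) V) (H X : Subgroup (V ≃ₗ[ZMod 2] V))
    (D : Submodule (ZMod 2) V) (e : V) (N : Subgroup (V ≃ₗ[ZMod 2] V))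
    (f g : V ≃ₗ[ZMod 2] V) : Prop where
  sys : Sys b H X D e
  le : N ≤ H
  normX : ∀ x ∈ X, ∀ n ∈ N, x * n * x⁻¹ ∈ N
  f_mem : f ∈ X
  g_mem : g ∈ X
  f_ne : f ≠ 1
  g_ne : g ≠ 1
  ne : f ≠ g
  f_cent : ∀ n ∈ N, n * f = f * n
  g_cent : ∀ n ∈ N, n * g = g * n

variable {b : LinearMap.BilinForm (ZMod 2) V} {H X : Subgroup (V ≃ₗ[ZMod 2] V)}
  {D : Submodule (ZMod 2) V} {e : V} {N : Subgroup (V ≃ₗ[ZMod 2] V)} {f g : V ≃ₗ[ZMod 2] V}

namespace NorX

theorem normX' (S : NorX b H X D e N f g) {x : V ≃ₗ[ZMod 2] V} (hx : x ∈ X)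
    {n : V ≃ₗ[ZMod 2] V} (hn : n ∈ N) : x⁻¹ * n * x ∈ N := by
  have := S.normX _ (X.inv_mem hx) n hn
  rwa [inv_inv] at this

theorem mem_D [Finite V] (S : NorX b H X D e N f g) {n m : V ≃ₗ[ZMod 2] V} (hn : n ∈ N)
    (hm : m ∈ N) : n⁻¹ (m e) ∈ D := by
  have key : ∀ n ∈ N, ∀ k ∈ ({f, g} : Set (V ≃ₗ[ZMod 2] V)), n⁻¹ * k * n ∈ X := by
    rintro n hn k (rfl | rfl)
    · have : n⁻¹ * k * n = k := by
        have := S.f_cent n hn
        calc n⁻¹ * k * n = n⁻¹ * (k * n) := by group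
          _ = n⁻¹ * (n * k) := by rw [this]
          _ = k := by group
      rw [this]; exact S.f_mem
    · have : n⁻¹ * k * n = k := by
        have := S.g_cent n hn
        calc n⁻¹ * k * n = n⁻¹ * (k * n) := by group
          _ = n⁻¹ * (n * k) := by rw [this]
          _ = k := by group
      rw [this]; exact S.g_mem
  exact S.sys.mem_D_of_pts (B := {f, g}) (Set.mem_insert _ _) (Set.mem_insert_of_mem _ rfl)
    S.f_ne S.g_ne S.ne (key n hn) (key m hm)

theorem U_le_D [Finite V] (S : NorX b H X D e N f g) : U N e ≤ D := by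
  apply Submodule.span_le.2
  rintro _ ⟨n, hn, rfl⟩
  have := S.mem_D N.one_mem hn
  exact this

theorem orb_ne (S : NorX b H X D e N f g) (n : V ≃ₗ[ZMod 2] V) : n e ≠ 0 := by
  intro (h : n e = 0)
  apply S.sys.ne
  have := inv_apply n e
  rw [h, map_zero] at this
  exact this.symm

/-- the elements `n x n⁻¹` -/
theorem exists_move (S : NorX b H X D e N f g) [Finite V] {n m : V ≃ₗ[ZMod 2] V} (hn : n ∈ N)
    (hm : m ∈ N) (hne : n e ≠ m e) : ∃ x ∈ X, (n * x * n⁻¹) (m e) = m e + n e :=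
  S.sys.exists_move (S.mem_D hn hm) (S.orb_ne m) fun h => hne h.symm

theorem cl [Finite V] (S : NorX b H X D e N f g) : Cl N e := by
  intro n hn m hm hne
  obtain ⟨x, hx, hxm⟩ := S.exists_move hn hm hne
  have hy : ∀ k ∈ N, (n * x * n⁻¹) * k * (n * x * n⁻¹)⁻¹ ∈ N := by
    intro k hk
    have : (n * x * n⁻¹) * k * (n * x * n⁻¹)⁻¹ = n * (x * (n⁻¹ * k * n) * x⁻¹) * n⁻¹ := by group
    rw [this]
    exact N.mul_mem (N.mul_mem hn (S.normX x hx _ (N.mul_mem (N.mul_mem (N.inv_mem hn) hk) hn)))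
      (N.inv_mem hn)
  refine ⟨(n * x * n⁻¹) * (m * n⁻¹) * (n * x * n⁻¹)⁻¹ * n,
    N.mul_mem (hy _ (N.mul_mem hm (N.inv_mem hn))) hn, ?_⟩
  have h1 : (n * x * n⁻¹)⁻¹ (n e) = n e := by
    have h2 : (n * x * n⁻¹) (n e) = n e := by
      show n (x (n⁻¹ (n e))) = n e
      rw [inv_apply, S.sys.X_e x hx]
    nth_rewrite 1 [← h2]
    exact inv_apply _ _
  show (n * x * n⁻¹) (m (n⁻¹ ((n * x * n⁻¹)⁻¹ (n e)))) = n e + m e
  rw [h1, inv_apply, hxm, add_comm]

/-- transvections: `y ∈ X N` with `y u = u + φ u • c` on `U N e` -/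
theorem exists_transv [Finite V] (S : NorX b H X D e N f g) {c : V} (hc : c ∈ U N e)
    (hc0 : c ≠ 0) (φ : V →ₗ[ZMod 2] ZMod 2) (hφ : φ c = 0) :
    ∃ x ∈ X, ∃ m ∈ N, ∀ u ∈ U N e, (x * m) u = u + φ u • c := by
  obtain ⟨n, hn, rfl⟩ : ∃ n ∈ N, n e = c := ((mem_U S.cl).1 hc).resolve_left hc0
  obtain ⟨x, hx, hx'⟩ := S.sys.full (φ ∘ₗ (n : V →ₗ[ZMod 2] V)) hφ
  refine ⟨x, hx, x⁻¹ * n * x * n⁻¹, N.mul_mem (S.normX' hx hn) (N.inv_mem hn), ?_⟩
  intro u hu
  have e1 : x * (x⁻¹ * n * x * n⁻¹) = n * x * n⁻¹ := by group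
  rw [e1]
  show n (x (n⁻¹ u)) = _
  rw [hx' _ (S.U_le_D (U_inv (N.inv_mem hn) hu)), map_add, map_smul, apply_inv]
  show u + φ (n (n⁻¹ u)) • n e = _
  rw [apply_inv]

/-- commutators of such elements lie in `N` -/
theorem comm_mem (S : NorX b H X D e N f g) {x x' m m' : V ≃ₗ[ZMod 2] V} (hx : x ∈ X)
    (hx' : x' ∈ X) (hm : m ∈ N) (hm' : m' ∈ N) :
    (x * m) * (x' * m') * ((x' * m') * (x * m))⁻¹ ∈ N := by
  have h1 := S.sys.X_comm x hx x' hx'
  have e1 : (x * m) * (x' * m') * ((x' * m') * (x * m))⁻¹ =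
      (x * x') * ((x'⁻¹ * m * x') * m' * m⁻¹ * (x⁻¹ * m'⁻¹ * x)) * (x * x')⁻¹ := by
    have e2 : (x * m) * (x' * m') * ((x' * m') * (x * m))⁻¹ =
      (x * x') * ((x'⁻¹ * m * x') * m' * m⁻¹ * (x⁻¹ * m'⁻¹ * x)) * (x' * x)⁻¹ := by group
    rw [e2, h1]
  rw [e1]
  apply S.normX _ (X.mul_mem hx hx')
  exact N.mul_mem (N.mul_mem (N.mul_mem (S.normX' hx' hm) hm') (N.inv_mem hm))
    (S.normX' hx (N.inv_mem hm'))

/-- if `U N e` contains a further vector of the kernel of `φ`, the transvection is induced by `N` -/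
theorem exists_transv_N [Finite V] (S : NorX b H X D e N f g) {c d : V} (hc : c ∈ U N e)
    (hc0 : c ≠ 0) (hd : d ∈ U N e) (hd0 : d ≠ 0) (hdc : d ≠ c)
    (φ : V →ₗ[ZMod 2] ZMod 2) (hφ : φ c = 0) (hφd : φ d = 0) :
    ∃ n ∈ N, ∀ u ∈ U N e, n u = u + φ u • c := by
  obtain ⟨ψ, h1, h2⟩ := exists_functional (e := c) (d := d) hd0 hdc
  obtain ⟨x, hx, m, hm, hxm⟩ := S.exists_transv hc hc0 ψ h1
  obtain ⟨x', hx', m', hm', hxm'⟩ := S.exists_transv hd hd0 φ hφd
  refine ⟨_, S.comm_mem hx hx' hm hm', ?_⟩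
  have key : ∀ u ∈ U N e, (x * m) ((x' * m') u) = (x' * m') ((x * m) u) + φ u • c := by
    intro u hu
    rw [hxm' u hu, hxm u hu, map_add, map_smul, map_add, map_smul, hxm u hu, hxm d hd,
      hxm' u hu, hxm' c hc, h2, hφ, zero_smul, add_zero, one_smul, smul_add]
    abel
  -- `w = y₂ y₁ u`
  intro w hw
  set y := (x' * m') * (x * m) with hy
  have hyU : ∀ u ∈ U N e, y u ∈ U N e := by
    intro u hu
    show (x' * m') ((x * m) u) ∈ U N e
    rw [hxm u hu, map_add, map_smul, hxm' u hu, hxm' c hc]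
    refine (U N e).add_mem ((U N e).add_mem hu ((U N e).smul_mem _ hd)) ((U N e).smul_mem _ ?_)
    exact (U N e).add_mem hc ((U N e).smul_mem _ hd)
  have hyinj : ∃ u ∈ U N e, y u = w := by
    -- the restriction of `y` to `U N e` is surjective
    have hf : Function.Injective (fun u : U N e => (⟨y u, hyU u u.2⟩ : U N e)) := by
      intro u u' huu
      exact Subtype.ext (y.injective (congrArg Subtype.val huu))
    obtain ⟨u, hu⟩ := Finite.surjective_of_injective hf ⟨w, hw⟩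
    exact ⟨u, u.2, congrArg Subtype.val hu⟩
  obtain ⟨u, hu, rfl⟩ := hyinj
  have h3 : (x * m * (x' * m') * y⁻¹) (y u) = (x * m) ((x' * m') u) := by
    show (x * m) ((x' * m') (y⁻¹ (y u))) = _
    rw [inv_apply]
  rw [h3, key u hu]
  have h4 : φ (y u) = φ u := by
    show φ ((x' * m') ((x * m) u)) = φ u
    rw [hxm u hu, map_add, map_smul, hxm' u hu, hxm' c hc]
    simp only [map_add, map_smul, hφ, hφd, smul_zero, add_zero]
  rw [h4]
  rfl

/-- a vector of `U N e` outside the span of two, if the dimension is at least three -/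
theorem exists_out [Finite V] (h3 : 3 ≤ finrank (ZMod 2) (U N e)) (c y : V) :
    ∃ x ∈ U N e, x ∉ Submodule.span (ZMod 2) ({c, y} : Set V) := by
  have : Module.Finite (ZMod 2) V := Module.Finite.of_finite
  by_contra hcon
  push Not at hcon
  have h1 : U N e ≤ Submodule.span (ZMod 2) ({c, y} : Set V) := hcon
  have h2 := Submodule.finrank_mono h1
  have h4 : finrank (ZMod 2) (Submodule.span (ZMod 2) ({c, y} : Set V)) ≤ 2 := by
    classical
    have h5 := finrank_span_finset_le_card (R := ZMod 2) ({c, y} : Finset V)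
    have h6 : (({c, y} : Finset V) : Set V) = {c, y} := by simp
    rw [Set.finrank, h6] at h5
    exact h5.trans Finset.card_le_two
  omega

/-- `N` induces all transvections on `U N e` if the dimension is at least three -/
theorem exists_transv_three [Finite V] (S : NorX b H X D e N f g)
    (h3 : 3 ≤ finrank (ZMod 2) (U N e)) {c : V} (hc : c ∈ U N e) (hc0 : c ≠ 0)
    (φ : V →ₗ[ZMod 2] ZMod 2) (hφ : φ c = 0) :
    ∃ n ∈ N, ∀ u ∈ U N e, n u = u + φ u • c := by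
  by_cases hx : ∃ x ∈ U N e, φ x = 1
  · obtain ⟨x, hxU, hx⟩ := hx
    obtain ⟨d, hd, hd'⟩ := exists_out (e := e) (N := N) h3 c x
    have hd1 : d + φ d • x ∈ U N e := (U N e).add_mem hd ((U N e).smul_mem _ hxU)
    have hspan : φ d • x ∈ Submodule.span (ZMod 2) ({c, x} : Set V) :=
      Submodule.smul_mem _ _ (Submodule.subset_span (Set.mem_insert_of_mem _ rfl))
    apply S.exists_transv_N hc hc0 hd1 _ _ φ hφ
    · rw [map_add, map_smul, hx, smul_eq_mul, mul_one, ← two_mul, show (2 : ZMod 2) = 0 from rfl,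
        zero_mul]
    · intro h
      apply hd'
      have h1 : d = φ d • x + 0 := by rw [← h, add_comm d, ← add_assoc, self, zero_add]
      rw [h1, add_zero]; exact hspan
    · intro h
      apply hd'
      have h1 : d = φ d • x + c := by rw [← h, add_comm d, ← add_assoc, self, zero_add]
      rw [h1]
      exact Submodule.add_mem _ hspan (Submodule.subset_span (Set.mem_insert _ _))
  · refine ⟨1, N.one_mem, fun u hu => ?_⟩
    have h1 : φ u = 0 := by
      rcases two (φ u) with h | h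
      · exact h
      · exact absurd ⟨u, hu, h⟩ hx
    rw [h1, zero_smul, add_zero]
    rfl

/-- `U N e` is not self-dual if its dimension is at least three -/
theorem not_sim [Finite V] (S : NorX b H X D e N f g) (h3 : 3 ≤ finrank (ZMod 2) (U N e))
    {u : V} (hu : b e u = 1) : ¬ Sim N e u := by
  have : Module.Finite (ZMod 2) V := Module.Finite.of_finite
  rintro ⟨θ, hθ, m, hm, hm'⟩
  have hbN : ∀ n ∈ N, ∀ v w, b (n v) (n w) = b v w := fun n hn => S.sys.inv n (S.le hn)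
  have key : ∀ c ∈ U N e, c ≠ 0 → ∀ y ∈ U N e, y ≠ 0 → y ≠ c → b c (θ y) = 0 := by
    intro c hc hc0 y hy hy0 hyc
    obtain ⟨x, hx, hx'⟩ := exists_out (e := e) (N := N) h3 c y
    obtain ⟨φ, h1, h2⟩ := Submodule.exists_le_ker_of_notMem hx'
    have h4 : φ c = 0 := h2 (Submodule.subset_span (Set.mem_insert _ _))
    have h5 : φ y = 0 := h2 (Submodule.subset_span (Set.mem_insert_of_mem _ rfl))
    obtain ⟨n, hn, hn'⟩ := S.exists_transv_N hc hc0 hy hy0 hyc φ h4 h5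
    have h6 := hbN n hn x (θ y)
    rw [← equi hθ hn hy, hn' x hx, hn' y hy, h5, two_ne h1, zero_smul, add_zero, one_smul,
      map_add, LinearMap.add_apply] at h6
    exact add_eq_left.1 h6
  have hme : b (m e) (θ e) = 1 := by rw [hm', hbN m hm, hu]
  have hmU : m e ∈ U N e := orb_mem hm
  have heU : e ∈ U N e := self_mem e
  by_cases h1 : e = m e
  · obtain ⟨y, hy, hy'⟩ := exists_out (e := e) (N := N) h3 e e
    have hy0 : y ≠ 0 := fun h => hy' (h ▸ Submodule.zero_mem _)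
    have hye : y ≠ e := fun h => hy' (h ▸ Submodule.subset_span (Set.mem_insert _ _))
    have h4 := key e heU S.sys.ne y hy hy0 hye
    have h5 := key e heU S.sys.ne (y + e) ((U N e).add_mem hy heU)
      (fun h => hye (by
        have := eq_add_iff (u := y) (v := e) (w := 0)
        rw [add_zero] at this
        exact this.2 h))
      (fun h => hy0 (add_eq_right.1 h))
    rw [map_add, map_add, h4, zero_add] at h5
    rw [← h1, h5] at hme
    exact zero_ne_one hme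
  · have h4 := key (m e) hmU (S.orb_ne m) e heU S.sys.ne h1
    rw [h4] at hme
    exact zero_ne_one hme

end NorX

/-- `N` normal in `H`, centralised by two nontrivial elements of `X` -/
structure Nor (b : LinearMap.BilinForm (ZMod 2) V) (H X : Subgroup (V ≃ₗ[ZMod 2] V))
    (D : Submodule (ZMod 2) V) (e : V) (N : Subgroup (V ≃ₗ[ZMod 2] V))
    (f g : V ≃ₗ[ZMod 2] V) : Prop extends NorX b H X D e N f g where
  norm : ∀ h ∈ H, ∀ n ∈ N, h * n * h⁻¹ ∈ N

namespace Nor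

theorem norm' (S : Nor b H X D e N f g) {h : V ≃ₗ[ZMod 2] V} (hh : h ∈ H) {n : V ≃ₗ[ZMod 2] V}
    (hn : n ∈ N) : h⁻¹ * n * h ∈ N := by
  have := S.norm _ (H.inv_mem hh) n hn
  rwa [inv_inv] at this

theorem cl' [Finite V] (S : Nor b H X D e N f g) {h : V ≃ₗ[ZMod 2] V} (hh : h ∈ H) :
    Cl N (h e) := by
  intro n hn m hm hne
  have e1 : ∀ n : V ≃ₗ[ZMod 2] V, n (h e) = h ((h⁻¹ * n * h) e) := fun n => (apply_inv h _).symm
  have hne' : (h⁻¹ * n * h) e ≠ (h⁻¹ * m * h) e := by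
    intro h1
    apply hne
    rw [e1, e1, h1]
  obtain ⟨k, hk, hk'⟩ := S.cl _ (S.norm' hh hn) _ (S.norm' hh hm) hne'
  refine ⟨h * k * h⁻¹, S.norm h hh k hk, ?_⟩
  rw [e1 n, e1 m, ← map_add, ← hk']
  show h (k (h⁻¹ (h e))) = h (k e)
  rw [inv_apply]

theorem finrank_eq (S : Nor b H X D e N f g) {h : V ≃ₗ[ZMod 2] V} (hh : h ∈ H) :
    finrank (ZMod 2) (U N (h e)) = finrank (ZMod 2) (U N e) :=
  finrank_U (fun n hn => S.norm h hh n hn) fun n hn => S.norm' hh hn

/-- the stabiliser of the isomorphism type of `U N e` in `H` -/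
def typ [Finite V] (S : Nor b H X D e N f g) : Subgroup (V ≃ₗ[ZMod 2] V) :=
  have : Finite (V ≃ₗ[ZMod 2] V) :=
    Finite.of_injective (fun g => (g : V → V)) DFunLike.coe_injective
  have hmul : ∀ x ∈ {h | h ∈ H ∧ Sim N e (h e)}, ∀ y ∈ {h | h ∈ H ∧ Sim N e (h e)},
      x * y ∈ {h | h ∈ H ∧ Sim N e (h e)} := fun x hx y hy =>
    ⟨H.mul_mem hx.1 hy.1, hx.2.trans (Sim.smul (h := x) (fun n hn => S.norm x hx.1 n hn)
      (fun n hn => S.norm' hx.1 hn) hy.2)⟩
  have hpow : ∀ x ∈ {h | h ∈ H ∧ Sim N e (h e)}, ∀ n : ℕ,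
      x ^ n ∈ {h | h ∈ H ∧ Sim N e (h e)} := by
    intro x hx n
    induction n with
    | zero => exact ⟨H.one_mem, Sim.refl e⟩
    | succ n ih => rw [pow_succ]; exact hmul _ ih _ hx
  { carrier := {h | h ∈ H ∧ Sim N e (h e)}
    one_mem' := ⟨H.one_mem, Sim.refl e⟩
    mul_mem' := fun {x y} hx hy => hmul x hx y hy
    inv_mem' := fun {x} hx => by
      have h1 : x⁻¹ = x ^ (orderOf x - 1) := by
        have h2 : 0 < orderOf x := orderOf_pos x
        have h3 : x ^ (orderOf x - 1) * x = 1 := by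
          rw [← pow_succ, Nat.sub_add_cancel h2, pow_orderOf_eq_one]
        exact (eq_inv_of_mul_eq_one_left h3).symm
      rw [h1]
      exact hpow x hx _ }

theorem mem_typ [Finite V] (S : Nor b H X D e N f g) {h : V ≃ₗ[ZMod 2] V} :
    h ∈ S.typ ↔ h ∈ H ∧ Sim N e (h e) := Iff.rfl

/-- a subgroup `M ≤ H` of odd index and `h ∈ H ∖ M` normalising `M` with `h² ∈ M` is impossible -/
theorem false_of_odd {Γ : Type*} [Group Γ] [Finite Γ] {M H : Subgroup Γ} (hM : M ≤ H)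
    (hodd : Odd (M.relIndex H)) {h : Γ} (hh : h ∈ H) (hn : ∀ m ∈ M, h⁻¹ * m * h ∈ M)
    (h2 : h * h ∈ M) (hnot : h ∉ M) : False := by
  have hn' : ∀ m ∈ M, h * m * h⁻¹ ∈ M := by
    intro m hm
    have : h * m * h⁻¹ = (h * h) * (h⁻¹ * m * h) * (h * h)⁻¹ := by group
    rw [this]
    exact M.mul_mem (M.mul_mem h2 (hn m hm)) (M.inv_mem h2)
  let K : Subgroup Γ :=
    { carrier := {k | k ∈ M ∨ k * h ∈ M}
      one_mem' := Or.inl M.one_mem
      mul_mem' := by
        rintro x y (hx | hx) (hy | hy)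
        · exact Or.inl (M.mul_mem hx hy)
        · right
          have : x * y * h = x * (y * h) := by group
          rw [this]; exact M.mul_mem hx hy
        · right
          have : x * y * h = (x * h) * (h⁻¹ * y * h) := by group
          rw [this]; exact M.mul_mem hx (hn y hy)
        · left
          have : x * y = (x * h) * (h⁻¹ * (y * h) * h) * (h * h)⁻¹ := by group
          rw [this]
          exact M.mul_mem (M.mul_mem hx (hn _ hy)) (M.inv_mem h2)
      inv_mem' := by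
        rintro x (hx | hx)
        · exact Or.inl (M.inv_mem hx)
        · right
          have : x⁻¹ * h = (h * (x * h)⁻¹ * h⁻¹) * (h * h) := by group
          rw [this]
          exact M.mul_mem (hn' _ (M.inv_mem hx)) h2 }
  have hKM : M ≤ K := fun m hm => Or.inl hm
  have hhK : h ∈ K := Or.inr h2
  have hKH : K ≤ H := by
    rintro x (hx | hx)
    · exact hM hx
    · have : x = (x * h) * h⁻¹ := by group
      rw [this]; exact H.mul_mem (hM hx) (H.inv_mem hh)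
  have h3 : (M.subgroupOf K).index = 2 := by
    rw [Subgroup.index_eq_two_iff]
    refine ⟨⟨h, hhK⟩, fun x => ?_⟩
    rw [Subgroup.mem_subgroupOf, Subgroup.mem_subgroupOf]
    rcases x.2 with hx | hx
    · right
      refine ⟨hx, fun h4 => hnot ?_⟩
      have h5 : (x : Γ) * h ∈ M := h4
      have : h = (x : Γ)⁻¹ * (x * h) := by group
      rw [this]; exact M.mul_mem (M.inv_mem hx) h5
    · left
      refine ⟨hx, fun h4 => hnot ?_⟩
      have : h = (x : Γ)⁻¹ * (x * h) := by group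
      rw [this]; exact M.mul_mem (M.inv_mem h4) hx
  have h4 : M.relIndex K ∣ M.relIndex H :=
    ⟨K.relIndex H, (Subgroup.relIndex_mul_relIndex M K H hKM hKH).symm⟩
  rw [show M.relIndex K = 2 from h3] at h4
  exact (Nat.not_even_iff_odd.2 hodd) (even_iff_two_dvd.2 h4)

/-- (N5) the span of the `N`-orbit of `e` has dimension at most two -/
theorem finrank_le [Finite V] (S : Nor b H X D e N f g) {P : Subgroup (V ≃ₗ[ZMod 2] V)}
    (hP : ∀ h ∈ P, h ∈ H ∧ h e = e) (hodd : Odd (P.relIndex H))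
    (hopp : ∃ h ∈ H, b e (h e) = 1) : finrank (ZMod 2) (U N e) ≤ 2 := by
  have hfin : Finite (V ≃ₗ[ZMod 2] V) :=
    Finite.of_injective (fun g => (g : V → V)) DFunLike.coe_injective
  by_contra hcon
  have h3 : 3 ≤ finrank (ZMod 2) (U N e) := by omega
  obtain ⟨h, hh, hb1⟩ := hopp
  have hbN : ∀ n ∈ N, ∀ v w, b (n v) (n w) = b v w := fun n hn => S.sys.inv n (S.le hn)
  have hPM : P ≤ S.typ := fun x hx => S.mem_typ.2 ⟨(hP x hx).1, by
    rw [(hP x hx).2]; exact Sim.refl e⟩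
  have hMH : S.typ ≤ H := fun x hx => hx.1
  have hodd' : Odd (S.typ.relIndex H) := by
    have h4 : S.typ.relIndex H ∣ P.relIndex H := Subgroup.relIndex_dvd_of_le_left H hPM
    exact hodd.of_dvd_nat h4
  have hb2 : b (h e) e = 1 := by rw [S.sys.comm]; exact hb1
  refine false_of_odd hMH hodd' hh ?_ ?_ ?_
  · intro x hx
    refine S.mem_typ.2 ⟨H.mul_mem (H.mul_mem (H.inv_mem hh) hx.1) hh, ?_⟩
    have h4 : Sim N (h e) (x (h e)) := by
      apply Sim.dual hbN (v := e) (v' := x e) (S.cl' (H.mul_mem hx.1 hh)) _ hx.2 hb1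
      · show b (x e) (x (h e)) = 1
        rw [S.sys.inv x hx.1]; exact hb1
      · exact S.finrank_eq (H.mul_mem hx.1 hh)
    have h5 := Sim.smul (h := h⁻¹) (fun n hn => S.norm _ (H.inv_mem hh) n hn)
      (fun n hn => S.norm' (H.inv_mem hh) hn) h4
    rw [inv_apply] at h5
    exact h5
  · refine S.mem_typ.2 ⟨H.mul_mem hh hh, ?_⟩
    apply Sim.dual hbN (v := h e) (v' := h e) (S.cl' (H.mul_mem hh hh)) _ (Sim.refl _) hb2
    · show b (h e) (h (h e)) = 1
      rw [S.sys.inv h hh]; exact hb1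
    · rw [S.finrank_eq (H.mul_mem hh hh), S.finrank_eq hh]
  · intro hx
    exact S.not_sim h3 hb1 hx.2

end Nor

/-! ### perfect groups -/

/-- a perfect group acts trivially on a set with at most three elements -/
theorem perm_eq_one {M : Type*} [Group M] (hM : commutator M = ⊤) {O : Type*} [Finite O]
    (hO : Nat.card O ≤ 3) (ρ : M →* Equiv.Perm O) (m : M) : ρ m = 1 := by
  classical
  have hcomm : ∀ {A : Type} [CommGroup A] (σ : M →* A) (m : M), σ m = 1 := by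
    intro A _ σ m
    have h1 : m ∈ commutator M := by rw [hM]; trivial
    exact (Abelianization.commutator_subset_ker σ) h1
  -- reduction to `Fin k`
  obtain ⟨k, ⟨E⟩⟩ := Finite.exists_equiv_fin O
  have hk : k ≤ 3 := by
    rw [Nat.card_congr E, Nat.card_eq_fintype_card, Fintype.card_fin] at hO
    exact hO
  have key : ∀ σ : M →* Equiv.Perm (Fin k), ∀ m, σ m = 1 := by
    intro σ m
    have h1 : ∀ m, Equiv.Perm.sign (σ m) = 1 := fun m =>
      hcomm ((Equiv.Perm.sign : Equiv.Perm (Fin k) →* ℤˣ).comp σ) m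
    have h2 : ∀ x y : Equiv.Perm (Fin k), Equiv.Perm.sign x = 1 → Equiv.Perm.sign y = 1 →
        x * y = y * x := by
      interval_cases k <;> decide
    have h3 : m ∈ commutator M := by rw [hM]; trivial
    have h4 : commutator M ≤ σ.ker := by
      rw [commutator_def, Subgroup.commutator_le]
      intro x _ y _
      rw [MonoidHom.mem_ker, commutatorElement_def, map_mul, map_mul, map_mul, map_inv, map_inv,
        h2 _ _ (h1 x) (h1 y), mul_inv_cancel_right, mul_inv_cancel]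
    exact h4 h3
  have h5 := key ((MulEquiv.toMonoidHom (Equiv.permCongrHom E)).comp ρ) m
  have h6 : Equiv.permCongrHom E (ρ m) = 1 := h5
  exact (MulEquiv.map_eq_one_iff _).1 h6

/-- a perfect group `N ≤ GL(V)` fixes `v` if the orbit of `v` with `0` is closed under addition and spans a
space of dimension at most two -/
theorem fix_of_perfect [Finite V] (hN : ⁅N, N⁆ = N) {v : V} (hv : v ≠ 0)
    (h2 : finrank (ZMod 2) (U N v) ≤ 2) {n : V ≃ₗ[ZMod 2] V} (hn : n ∈ N) : n v = v := by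
  classical
  have hM : commutator N = ⊤ := by
    apply Subgroup.map_injective N.subtype_injective
    rw [Subgroup.map_subtype_commutator, hN, ← MonoidHom.range_eq_map, Subgroup.range_subtype]
  let O := {w : V // w ∈ U N v ∧ w ≠ 0}
  have hne : ∀ (n : V ≃ₗ[ZMod 2] V) (w : V), w ≠ 0 → n w ≠ 0 := by
    intro n w hw h
    apply hw
    have := inv_apply n w
    rw [h, map_zero] at this
    exact this.symm
  let ρ : N →* Equiv.Perm O :=
    { toFun := fun n =>
        { toFun := fun w => ⟨(n : V ≃ₗ[ZMod 2] V) w, U_inv n.2 w.2.1, hne _ _ w.2.2⟩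
          invFun := fun w => ⟨((n⁻¹ : N) : V ≃ₗ[ZMod 2] V) w, U_inv (n⁻¹ : N).2 w.2.1,
            hne _ _ w.2.2⟩
          left_inv := fun w => Subtype.ext (inv_apply _ _)
          right_inv := fun w => Subtype.ext (apply_inv _ _) }
      map_one' := by ext w; rfl
      map_mul' := fun n m => by ext w; rfl }
  have hO : Nat.card O ≤ 3 := by
    have h3 : Nat.card (Option O) ≤ Nat.card (U N v) := by
      let F : Option O → U N v := fun o => o.elim 0 fun w => ⟨w, w.2.1⟩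
      apply Nat.card_le_card_of_injective F
      rintro (_ | w) (_ | w') h
      · rfl
      · exact absurd (congrArg Subtype.val h).symm w'.2.2
      · exact absurd (congrArg Subtype.val h) w.2.2
      · exact congrArg some (Subtype.ext (congrArg (fun x : U N v => (x : V)) h))
    rw [Finite.card_option] at h3
    have h4 : Nat.card (U N v) ≤ 4 := by
      rw [Module.natCard_eq_pow_finrank (K := ZMod 2) (V := U N v), Nat.card_zmod]
      calc 2 ^ finrank (ZMod 2) (U N v) ≤ 2 ^ 2 := Nat.pow_le_pow_right (by norm_num) h2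
        _ = 4 := by norm_num
    omega
  have h5 := perm_eq_one hM hO ρ ⟨n, hn⟩
  have h6 := congrArg (fun σ : Equiv.Perm O => ((σ ⟨v, self_mem v, hv⟩ : O) : V)) h5
  exact h6

namespace Nor

/-- (N5) a perfect normal subgroup centralised by two nontrivial elements of `X` is trivial -/
theorem eq_bot_of_perfect [Finite V] (S : Nor b H X D e N f g)
    {P : Subgroup (V ≃ₗ[ZMod 2] V)} (hP : ∀ h ∈ P, h ∈ H ∧ h e = e) (hodd : Odd (P.relIndex H))
    (hopp : ∃ h ∈ H, b e (h e) = 1) (hN : ⁅N, N⁆ = N)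
    (hspan : Submodule.span (ZMod 2) {v | ∃ h ∈ H, h e = v} = ⊤) : N = ⊥ := by
  have hfix := S.finrank_le hP hodd hopp
  rw [eq_bot_iff]
  intro n hn
  rw [Subgroup.mem_bot]
  ext v
  have hv : v ∈ Submodule.span (ZMod 2) {v | ∃ h ∈ H, h e = v} := by rw [hspan]; trivial
  induction hv using Submodule.span_induction with
  | mem x hx =>
    obtain ⟨h, hh, rfl⟩ := hx
    have h1 := fix_of_perfect hN S.sys.ne hfix (S.norm' hh hn)
    show n (h e) = h e
    have h2 : n (h e) = h ((h⁻¹ * n * h) e) := (apply_inv h _).symm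
    rw [h2, h1]
  | zero => rw [map_zero, map_zero]
  | add x y _ _ hx hy => rw [map_add, map_add, hx, hy]
  | smul c x _ hx => rw [map_smul, map_smul, hx]

end Nor

end Cfsg.Agent.Omega.W5.Parity

end

section


/-!
# EH3: (N5) in the configuration `Cfg` (helper947)

`Cfg.card_cent_le_of_perfect`, `Cfg.card_cent_le` : a normal subgroup `N ≠ 1` of `H` which is perfect (resp. not
solvable) satisfies `|C_X(N)| ≤ 2`.  `Cfg.orbit_le`: if `N` is normal in `H` and commutes with two distinct elements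
`≠ 1` of `X`, then the span of every `N`-orbit on the points has dimension `≤ 2`.
-/

set_option autoImplicit false

namespace Cfsg.Agent.Omega.EH3.Cfg

open Cfsg.Agent.Omega.W5.NearTI Cfsg.Agent.Omega.W5.Parity Module

variable {H V : Type*} [Group H] [AddCommGroup V] [Module (ZMod 2) V]
  {ρ : H →* (V ≃ₗ[ZMod 2] V)} {b : LinearMap.BilinForm (ZMod 2) V} {q : V → ZMod 2}
  {a : V} {D : Submodule (ZMod 2) V} {X : Subgroup H} {w : ℕ}

theorem norX (C : Cfg ρ b q a D X w) {N : Subgroup H} (hN : ∀ x ∈ X, ∀ n ∈ N, x * n * x⁻¹ ∈ N)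
    {f g : H} (hf : f ∈ X) (hg : g ∈ X) (hf1 : f ≠ 1) (hg1 : g ≠ 1) (hfg : f ≠ g)
    (hfc : ∀ n ∈ N, n * f = f * n) (hgc : ∀ n ∈ N, n * g = g * n) :
    NorX b ρ.range (X.map ρ) D a (N.map ρ) (ρ f) (ρ g) where
  sys := C.sys
  le := by rintro _ ⟨n, -, rfl⟩; exact ⟨n, rfl⟩
  normX := by
    rintro _ ⟨x, hx, rfl⟩ _ ⟨n, hn, rfl⟩
    exact ⟨x * n * x⁻¹, hN x hx n hn, by rw [map_mul, map_mul, map_inv]⟩
  f_mem := ⟨f, hf, rfl⟩
  g_mem := ⟨g, hg, rfl⟩
  f_ne := fun h => hf1 (C.inj (by rw [h, map_one]))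
  g_ne := fun h => hg1 (C.inj (by rw [h, map_one]))
  ne := fun h => hfg (C.inj h)
  f_cent := by rintro _ ⟨n, hn, rfl⟩; rw [← map_mul, ← map_mul, hfc n hn]
  g_cent := by rintro _ ⟨n, hn, rfl⟩; rw [← map_mul, ← map_mul, hgc n hn]

theorem nor (C : Cfg ρ b q a D X w) {N : Subgroup H} (hN : N.Normal)
    {f g : H} (hf : f ∈ X) (hg : g ∈ X) (hf1 : f ≠ 1) (hg1 : g ≠ 1) (hfg : f ≠ g)
    (hfc : ∀ n ∈ N, n * f = f * n) (hgc : ∀ n ∈ N, n * g = g * n) :
    Nor b ρ.range (X.map ρ) D a (N.map ρ) (ρ f) (ρ g) where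
  toNorX := C.norX (fun x _ n hn => hN.conj_mem n hn x) hf hg hf1 hg1 hfg hfc hgc
  norm := by
    rintro _ ⟨h, rfl⟩ _ ⟨n, hn, rfl⟩
    exact ⟨h * n * h⁻¹, hN.conj_mem n hn h, by rw [map_mul, map_mul, map_inv]⟩

theorem stab_le (_C : Cfg ρ b q a D X w) :
    ∀ h ∈ (stab ρ a).map ρ, h ∈ ρ.range ∧ h a = a := by
  rintro _ ⟨h, hh, rfl⟩
  exact ⟨⟨h, rfl⟩, hh⟩

theorem odd_relIndex (C : Cfg ρ b q a D X w) : Odd (((stab ρ a).map ρ).relIndex ρ.range) := by
  rw [MonoidHom.range_eq_map, ← Subgroup.relIndex_comap, Subgroup.comap_map_eq_self_of_injective C.inj,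
    Subgroup.relIndex_top_right]
  exact C.odd_index

/-- (N5): the `N`-orbit of `a` spans a space of dimension at most two -/
theorem orbit_le (C : Cfg ρ b q a D X w) {N : Subgroup H} (hN : N.Normal)
    {f g : H} (hf : f ∈ X) (hg : g ∈ X) (hf1 : f ≠ 1) (hg1 : g ≠ 1) (hfg : f ≠ g)
    (hfc : ∀ n ∈ N, n * f = f * n) (hgc : ∀ n ∈ N, n * g = g * n) :
    finrank (ZMod 2) (U (N.map ρ) a) ≤ 2 := by
  have := C.finite_V
  obtain ⟨h, hh⟩ := C.exists_opp
  exact (C.nor hN hf hg hf1 hg1 hfg hfc hgc).finrank_le C.stab_le C.odd_relIndex ⟨ρ h, ⟨h, rfl⟩, hh⟩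

/-- (N5) for perfect normal subgroups: no two elements `≠ 1` of `X` commute with `N` -/
theorem eq_of_cent (C : Cfg ρ b q a D X w) {N : Subgroup H} (hN : N.Normal) (hp : ⁅N, N⁆ = N)
    (h1 : N ≠ ⊥) {f g : H} (hf : f ∈ X) (hg : g ∈ X) (hf1 : f ≠ 1) (hg1 : g ≠ 1)
    (hfc : ∀ n ∈ N, n * f = f * n) (hgc : ∀ n ∈ N, n * g = g * n) : f = g := by
  by_contra hfg
  apply h1
  have := C.finite_V
  obtain ⟨h, hh⟩ := C.exists_opp
  have h2 : N.map ρ = ⊥ := by
    refine (C.nor hN hf hg hf1 hg1 hfg hfc hgc).eq_bot_of_perfect C.stab_le C.odd_relIndex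
      ⟨ρ h, ⟨h, rfl⟩, hh⟩ ?_ ?_
    · rw [← Subgroup.map_commutator, hp]
    · rw [← C.span_orbit]
      congr 1
      ext v
      constructor
      · rintro ⟨_, ⟨k, rfl⟩, h3⟩; exact ⟨k, h3⟩
      · rintro ⟨k, h3⟩; exact ⟨ρ k, ⟨k, rfl⟩, h3⟩
  rw [eq_bot_iff]
  intro n hn
  have h3 : ρ n ∈ N.map ρ := ⟨n, hn, rfl⟩
  rw [h2, Subgroup.mem_bot] at h3
  exact Subgroup.mem_bot.2 (C.inj (by rw [h3, map_one]))

/-- **(N5)**, perfect case: `|C_X(N)| ≤ 2` -/
theorem card_cent_le_of_perfect (C : Cfg ρ b q a D X w) {N : Subgroup H} (hN : N.Normal)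
    (hp : ⁅N, N⁆ = N) (h1 : N ≠ ⊥) :
    Nat.card ↥(X ⊓ Subgroup.centralizer (N : Set H)) ≤ 2 := by
  classical
  have := C.finite_H
  set Y := X ⊓ Subgroup.centralizer (N : Set H) with hY
  have key : ∀ f g : Y, f ≠ 1 → g ≠ 1 → f = g := by
    intro f g hf hg
    apply Subtype.ext
    refine C.eq_of_cent hN hp h1 f.2.1 g.2.1 (fun h => hf (Subtype.ext h)) (fun h => hg (Subtype.ext h))
      (fun n hn => ?_) (fun n hn => ?_)
    · exact Subgroup.mem_centralizer_iff.1 f.2.2 n hn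
    · exact Subgroup.mem_centralizer_iff.1 g.2.2 n hn
  have hinj : Function.Injective fun f : Y => (decide (f = 1) : Bool) := by
    intro f g hfg
    by_cases hf : f = 1
    · by_cases hg : g = 1
      · rw [hf, hg]
      · simp [hf, hg] at hfg
    · by_cases hg : g = 1
      · simp [hf, hg] at hfg
      · exact key f g hf hg
  have h3 := Nat.card_le_card_of_injective _ hinj
  simpa using h3

/-- a subgroup `N ⊴ H` of a finite group which is not solvable contains a perfect `M ⊴ H`, `M ≠ 1` -/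
theorem exists_perfect {H : Type*} [Group H] [Finite H] {N : Subgroup H} (hN : N.Normal)
    (hs : ¬ Group.IsSolvable N) : ∃ M : Subgroup H, M.Normal ∧ M ≤ N ∧ ⁅M, M⁆ = M ∧ M ≠ ⊥ := by
  set K : ℕ → Subgroup H := fun n => (derivedSeries N n).map N.subtype with hK
  have hsucc : ∀ n, K (n + 1) = ⁅K n, K n⁆ := fun n => by
    simp only [hK, derivedSeries_succ, Subgroup.map_commutator]
  have hle : ∀ n, K (n + 1) ≤ K n := fun n => by
    rw [hsucc]
    exact Subgroup.commutator_le_self (K n)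
  have hst : ∃ n, K (n + 1) = K n := by
    by_contra hcon
    push Not at hcon
    have h1 : ∀ n, Nat.card (K n) + n ≤ Nat.card (K 0) := by
      intro n
      induction n with
      | zero => simp
      | succ n ih =>
        have h2 : Nat.card (K (n + 1)) < Nat.card (K n) := by
          have h3 : (K (n + 1) : Set H) ⊂ (K n : Set H) :=
            lt_of_le_of_ne (hle n) (fun h => hcon n (SetLike.coe_injective h))
          exact Set.Finite.card_lt_card (Set.toFinite _) h3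
        omega
    have h2 := h1 (Nat.card (K 0) + 1)
    omega
  obtain ⟨n, hn⟩ := hst
  refine ⟨K n, ?_, ?_, ?_, ?_⟩
  · have : (derivedSeries N n).Characteristic := inferInstance
    exact ConjAct.normal_of_characteristic_of_normal
  · rintro _ ⟨x, -, rfl⟩; exact x.2
  · rw [← hsucc, hn]
  · intro h0
    apply hs
    refine (Group.isSolvable_def _).2 ⟨n, ?_⟩
    rw [eq_bot_iff]
    intro x hx
    have h1 : (x : H) ∈ K n := ⟨x, hx, rfl⟩
    rw [h0, Subgroup.mem_bot] at h1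
    exact Subgroup.mem_bot.2 (Subtype.ext h1)

/-- **(N5)**: `|C_X(N)| ≤ 2` for every normal subgroup `N` of `H` which is not solvable -/
theorem card_cent_le (C : Cfg ρ b q a D X w) {N : Subgroup H} (hN : N.Normal)
    (hs : ¬ Group.IsSolvable N) : Nat.card ↥(X ⊓ Subgroup.centralizer (N : Set H)) ≤ 2 := by
  have := C.finite_H
  obtain ⟨M, hM, hMN, hp, h1⟩ := exists_perfect hN hs
  refine le_trans ?_ (C.card_cent_le_of_perfect hM hp h1)
  refine Nat.card_le_card_of_injective (Subgroup.inclusion ?_) (Subgroup.inclusion_injective _)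
  exact inf_le_inf_left X (Subgroup.centralizer_le hMN)

end Cfsg.Agent.Omega.EH3.Cfg

end

section


/-!
# Clifford step of EH3, piece (G) (helper947 for helper291)

`gamma_false` : in the configuration `Cfg` let `V = V₁ ⊕ V₂`, `A'` of index two in `X`, `V₁` invariant under `A'`,
mapped to `V₂` by `X - A'`; `N₁`, `N₂` commuting subgroups interchanged by `X - A'`, `N₁` perfect, `≠ 1`, of even
order, normalised by `A'`, invariant on `V₁` and trivial on `V₂`.  This is impossible.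
-/

set_option autoImplicit false

namespace Cfsg.Agent.Omega.EH3.Clif

open Subgroup

variable {H V : Type*} [Group H] [AddCommGroup V] [Module (ZMod 2) V]
  {ρ : H →* (V ≃ₗ[ZMod 2] V)} {b : LinearMap.BilinForm (ZMod 2) V} {q : V → ZMod 2}
  {a : V} {D : Submodule (ZMod 2) V} {X : Subgroup H} {w : ℕ}

/-- the situation of `gamma_false` with an element `α ∈ X - A'` -/
structure Gam (ρ : H →* (V ≃ₗ[ZMod 2] V)) (X : Subgroup H) (V₁ V₂ : Submodule (ZMod 2) V) (A' N₁ : Subgroup H)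
    (α : H) : Prop where
  compl : IsCompl V₁ V₂
  A_le : ∀ x ∈ A', x ∈ X
  α_mem : α ∈ X
  cases : ∀ x ∈ X, x * α ∈ A' ∨ x ∈ A'
  A_V : ∀ x ∈ A', ∀ v ∈ V₁, ρ x v ∈ V₁
  sw : ∀ v ∈ V₁, ρ α v ∈ V₂
  comm : ∀ n ∈ N₁, ∀ m ∈ N₁, n * (α * m * α⁻¹) = (α * m * α⁻¹) * n
  A_N : ∀ x ∈ A', ∀ n ∈ N₁, x * n * x⁻¹ ∈ N₁
  N_V : ∀ n ∈ N₁, ∀ v ∈ V₁, ρ n v ∈ V₁
  triv : ∀ n ∈ N₁, ∀ v ∈ V₂, ρ n v = v
  perf : ⁅N₁, N₁⁆ = N₁
  ne : N₁ ≠ ⊥
  even : Even (Nat.card N₁)

namespace Gam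

variable {V₁ V₂ : Submodule (ZMod 2) V} {A' N₁ : Subgroup H} {α : H}

theorem dec (S : Gam ρ X V₁ V₂ A' N₁ α) (v : V) : ∃ x ∈ V₁, ∃ y ∈ V₂, x + y = v :=
  Submodule.mem_sup.1 (by rw [S.compl.sup_eq_top]; trivial)

theorem inter (S : Gam ρ X V₁ V₂ A' N₁ α) {v : V} (h1 : v ∈ V₁) (h2 : v ∈ V₂) : v = 0 := by
  have : v ∈ V₁ ⊓ V₂ := ⟨h1, h2⟩
  rwa [S.compl.inf_eq_bot, Submodule.mem_bot] at this

/-- components are unique -/
theorem comp (C : Cfg ρ b q a D X w) (S : Gam ρ X V₁ V₂ A' N₁ α) {x x' y y' : V} (hx : x ∈ V₁) (hx' : x' ∈ V₁)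
    (hy : y ∈ V₂) (hy' : y' ∈ V₂) (h : x + y = x' + y') : x = x' ∧ y = y' := by
  have h1 : x + x' = y + y' := by
    have h2 : (x + y) + (x' + y) = (x' + y') + (x' + y) := by rw [h]
    calc x + x' = (x + x') + (y + y) := by rw [C.add_self, add_zero]
      _ = (x + y) + (x' + y) := by abel
      _ = (x' + y') + (x' + y) := h2
      _ = (x' + x') + (y + y') := by abel
      _ = y + y' := by rw [C.add_self, zero_add]
  have h2 : x + x' = 0 := S.inter (V₁.add_mem hx hx') (h1 ▸ V₂.add_mem hy hy')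
  exact ⟨C.add_eq_zero.1 h2, C.add_eq_zero.1 (h1 ▸ h2)⟩

theorem fix_pair (C : Cfg ρ b q a D X w) (S : Gam ρ X V₁ V₂ A' N₁ α) {v : V} (hv : v ∈ V₁)
    (hA : ∀ x ∈ A', ρ x v = v) : v = 0 ∨ v + ρ α v = a := by
  have h1 : ∀ x ∈ A', ρ x (v + ρ α v) = v + ρ α v := by
    intro x hx
    rw [map_add, hA x hx, ← C.ρ_mul, C.X_comm (S.A_le x hx) S.α_mem, C.ρ_mul, hA x hx]
  have h2 : ρ α (v + ρ α v) = v + ρ α v := by
    rw [map_add, ← C.ρ_mul, C.X_sq α S.α_mem, C.ρ_one, add_comm]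
  rcases C.fix_X (v := v + ρ α v) (fun x hx => by
    rcases S.cases x hx with h | h
    · have e : x = x * α * α := by rw [mul_assoc, C.X_sq α S.α_mem, mul_one]
      rw [e, C.ρ_mul, h2, h1 _ h]
    · exact h1 x h) with h | h
  · left
    rw [C.add_eq_zero] at h
    exact S.inter hv (h ▸ S.sw v hv)
  · right; exact h

theorem exists_a (C : Cfg ρ b q a D X w) (S : Gam ρ X V₁ V₂ A' N₁ α) :
    ∃ a₁ ∈ V₁, a₁ ≠ 0 ∧ a₁ + ρ α a₁ = a ∧ (∀ x ∈ A', ρ x a₁ = a₁) ∧
      ∀ v ∈ V₁, (∀ x ∈ A', ρ x v = v) → v = 0 ∨ v = a₁ := by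
  have := C.finite_V
  have hA : IsPGroup 2 A' := C.isPGroup_X.to_le fun x hx => S.A_le x hx
  have h0 : V₁ ≠ ⊥ := by
    intro h
    apply S.ne
    rw [eq_bot_iff]
    intro n hn
    rw [mem_bot]
    apply C.ext
    intro v
    obtain ⟨x, hx, y, hy, rfl⟩ := S.dec v
    rw [h, Submodule.mem_bot] at hx
    rw [hx, zero_add, S.triv n hn y hy, C.ρ_one]
  obtain ⟨u, hu, hu0, hf⟩ := exists_fix ρ hA S.A_V h0
  have h1 := (S.fix_pair C hu hf).resolve_left hu0
  refine ⟨u, hu, hu0, h1, hf, fun v hv hvf => ?_⟩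
  rcases S.fix_pair C hv hvf with h | h
  · exact Or.inl h
  · exact Or.inr (S.comp C hv hu (S.sw v hv) (S.sw u hu) (h.trans h1.symm)).1

theorem α_inv (C : Cfg ρ b q a D X w) (S : Gam ρ X V₁ V₂ A' N₁ α) : α⁻¹ = α := C.X_inv S.α_mem

/-- `N₂ = N₁^α` is trivial on `V₁` -/
theorem triv₂ (C : Cfg ρ b q a D X w) (S : Gam ρ X V₁ V₂ A' N₁ α) {n : H} (hn : n ∈ N₁) {v : V} (hv : v ∈ V₁) :
    ρ (α * n * α⁻¹) v = v := by
  rw [S.α_inv C, C.ρ_mul, C.ρ_mul, S.triv n hn _ (S.sw v hv), ← C.ρ_mul, C.X_sq α S.α_mem, C.ρ_one]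

/-- (1) `C_{V₁}(N₁) = 0` -/
theorem cent_zero (C : Cfg ρ b q a D X w) (S : Gam ρ X V₁ V₂ A' N₁ α) {v : V} (hv : v ∈ V₁)
    (hf : ∀ n ∈ N₁, ρ n v = v) : v = 0 := by
  by_contra hv0
  have := C.finite_V
  have hA : IsPGroup 2 A' := C.isPGroup_X.to_le fun x hx => S.A_le x hx
  let K : Submodule (ZMod 2) V := V₁ ⊓ C.fixV N₁
  have hK : ∀ x ∈ A', ∀ u ∈ K, ρ x u ∈ K := by
    rintro x hx u ⟨hu, hu'⟩
    refine ⟨S.A_V x hx u hu, fun n hn => ?_⟩
    have h1 := hu' _ (S.A_N x⁻¹ (A'.inv_mem hx) n hn)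
    have e : n * x = x * (x⁻¹ * n * x⁻¹⁻¹) := by group
    rw [← C.ρ_mul, e, C.ρ_mul, h1]
  have hK0 : K ≠ ⊥ := by
    intro h
    apply hv0
    have : v ∈ K := ⟨hv, hf⟩
    rwa [h, Submodule.mem_bot] at this
  obtain ⟨u, ⟨hu, huN⟩, hu0, huf⟩ := exists_fix ρ hA hK hK0
  have h1 := (S.fix_pair C hu huf).resolve_left hu0
  have hstab : ∀ n ∈ N₁, ρ n a = a := by
    intro n hn
    rw [← h1, map_add, huN n hn, S.triv n hn _ (S.sw u hu)]
  -- `φ n = n⁻¹ n^α ∈ X`
  have hφ : ∀ n ∈ N₁, n⁻¹ * (α * n * α⁻¹) ∈ X := by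
    intro n hn
    have h2 := C.X_norm n⁻¹ (C.fix_inv (hstab n hn)) α S.α_mem
    have e : n⁻¹ * (α * n * α⁻¹) = (n⁻¹ * α * n⁻¹⁻¹) * α⁻¹ := by group
    rw [e]
    exact X.mul_mem h2 (X.inv_mem S.α_mem)
  -- commutators of `N₁` commute with `N₁`
  have hcomm : ∀ n ∈ N₁, ∀ m ∈ N₁, ∀ k ∈ N₁, (n * m * n⁻¹ * m⁻¹) * k = k * (n * m * n⁻¹ * m⁻¹) := by
    intro n hn m hm k hk
    have h2 := C.X_comm (hφ n hn) (hφ m hm)
    set n' := α * n * α⁻¹ with hn'
    set m' := α * m * α⁻¹ with hm'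
    have c1 : n' * m⁻¹ = m⁻¹ * n' := (S.comm m⁻¹ (N₁.inv_mem hm) n hn).symm
    have c2 : m' * n⁻¹ = n⁻¹ * m' := (S.comm n⁻¹ (N₁.inv_mem hn) m hm).symm
    -- n⁻¹ n' m⁻¹ m' = m⁻¹ m' n⁻¹ n'
    have h3 : n⁻¹ * m⁻¹ * (n' * m') = m⁻¹ * n⁻¹ * (m' * n') := by
      calc n⁻¹ * m⁻¹ * (n' * m') = n⁻¹ * (m⁻¹ * n') * m' := by group
        _ = n⁻¹ * (n' * m⁻¹) * m' := by rw [c1]
        _ = (n⁻¹ * n') * (m⁻¹ * m') := by group
        _ = (m⁻¹ * m') * (n⁻¹ * n') := h2
        _ = m⁻¹ * (m' * n⁻¹) * n' := by group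
        _ = m⁻¹ * (n⁻¹ * m') * n' := by rw [c2]
        _ = m⁻¹ * n⁻¹ * (m' * n') := by group
    have h4 : n * m * n⁻¹ * m⁻¹ = (m' * n') * (n' * m')⁻¹ := by
      calc n * m * n⁻¹ * m⁻¹ = n * m * (n⁻¹ * m⁻¹ * (n' * m')) * (n' * m')⁻¹ := by group
        _ = n * m * (m⁻¹ * n⁻¹ * (m' * n')) * (n' * m')⁻¹ := by rw [h3]
        _ = (m' * n') * (n' * m')⁻¹ := by group
    have h5 : (m' * n') * (n' * m')⁻¹ = α * (m * n * (n * m)⁻¹) * α⁻¹ := by
      rw [hn', hm']; group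
    rw [h4, h5]
    exact (S.comm k hk _ (N₁.mul_mem (N₁.mul_mem hm hn) (N₁.inv_mem (N₁.mul_mem hn hm)))).symm
  -- `N₁ ≤ Z(N₁)`
  have hab : ∀ n ∈ N₁, ∀ k ∈ N₁, n * k = k * n := by
    have h2 : N₁ ≤ centralizer (N₁ : Set H) := by
      conv_lhs => rw [← S.perf]
      rw [commutator_le]
      intro n hn m hm
      rw [mem_centralizer_iff]
      intro k hk
      exact (hcomm n hn m hm k hk).symm
    intro n hn k hk
    exact (mem_centralizer_iff.1 (h2 hn) k hk).symm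
  apply S.ne
  rw [← S.perf, eq_bot_iff, commutator_le]
  intro n hn m hm
  rw [mem_bot, commutatorElement_eq_one_iff_mul_comm]
  exact hab n hn m hm

/-- (2) `V₁ ⊥ V₂` -/
theorem perp (C : Cfg ρ b q a D X w) (S : Gam ρ X V₁ V₂ A' N₁ α) {x y : V} (hx : x ∈ V₁) (hy : y ∈ V₂) :
    b x y = 0 := by
  have := C.finite_V
  let W : Submodule (ZMod 2) V := Submodule.span (ZMod 2) {u | ∃ n ∈ N₁, ∃ v, ρ n v + v = u}
  have hWV : W ≤ V₁ := by
    apply Submodule.span_le.2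
    rintro _ ⟨n, hn, v, rfl⟩
    obtain ⟨x, hx, y, hy, rfl⟩ := S.dec v
    have e : ρ n (x + y) + (x + y) = ρ n x + x := by
      rw [map_add, S.triv n hn y hy]
      calc ρ n x + y + (x + y) = ρ n x + x + (y + y) := by abel
        _ = ρ n x + x := by rw [C.add_self, add_zero]
    rw [e]
    exact V₁.add_mem (S.N_V n hn x hx) hx
  have h1 : b.orthogonal W = V₂ := by
    ext u
    rw [C.mem_perp]
    constructor
    · intro hu
      have h2 : ∀ n ∈ N₁, ρ n u = u := by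
        intro n hn
        rw [← C.add_eq_zero]
        apply C.nondeg
        intro v
        have h3 := hu _ (Submodule.subset_span ⟨n⁻¹, N₁.inv_mem hn, v, rfl⟩)
        rw [map_add, LinearMap.add_apply] at h3 ⊢
        have e1 : b (ρ n u) v = b u (ρ n⁻¹ v) := by
          rw [← C.b_inv n u (ρ n⁻¹ v), C.ρ_apply_inv]
        rw [e1, C.b_comm u, C.b_comm u v]
        exact h3
      obtain ⟨x, hx, y, hy, rfl⟩ := S.dec u
      have h4 : x = 0 := by
        apply S.cent_zero C hx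
        intro n hn
        have h5 := h2 n hn
        rw [map_add, S.triv n hn y hy] at h5
        exact add_right_cancel h5
      rw [h4, zero_add]
      exact hy
    · intro hu v hv
      induction hv using Submodule.span_induction with
      | mem z hz =>
        obtain ⟨n, hn, v, rfl⟩ := hz
        rw [map_add, LinearMap.add_apply]
        have e1 : b (ρ n v) u = b v u := by
          nth_rewrite 1 [← S.triv n hn u hu]
          exact C.b_inv n v u
        rw [e1, CharTwo.add_self_eq_zero]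
      | zero => rw [map_zero, LinearMap.zero_apply]
      | add z z' _ _ h h' => rw [map_add, LinearMap.add_apply, h, h', add_zero]
      | smul k z _ h => rw [map_smul, LinearMap.smul_apply, h, smul_zero]
  have h2 : W = V₁ := by
    have h3 := C.card_perp W
    rw [h1] at h3
    have h4 : Nat.card V₁ * Nat.card V₂ = Nat.card V := by
      rw [← Nat.card_prod]
      exact Nat.card_congr (Submodule.prodEquivOfIsCompl V₁ V₂ S.compl).toEquiv
    have h5 : Nat.card W = Nat.card V₁ :=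
      Nat.eq_of_mul_eq_mul_right (Nat.card_pos) (h3.trans h4.symm)
    apply SetLike.coe_injective
    exact Set.eq_of_subset_of_ncard_le hWV (by
      rw [← Nat.card_coe_set_eq, ← Nat.card_coe_set_eq]
      exact h5.ge) (Set.toFinite _)
  have h3 : y ∈ b.orthogonal W := by rw [h1]; exact hy
  rw [C.mem_perp] at h3
  exact h3 x (by rw [h2]; exact hx)

/-- `x_t = t⁻¹ t^α` -/
def xt (α t : H) : H := t⁻¹ * (α * t * α⁻¹)

theorem xt_mem (C : Cfg ρ b q a D X w) (S : Gam ρ X V₁ V₂ A' N₁ α) {t : H} (ht : ρ t a = a) : xt α t ∈ X := by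
  have h2 := C.X_norm t⁻¹ (C.fix_inv ht) α S.α_mem
  have e : xt α t = (t⁻¹ * α * t⁻¹⁻¹) * α⁻¹ := by unfold xt; group
  rw [e]
  exact X.mul_mem h2 (X.inv_mem S.α_mem)

theorem xt_V₁ (C : Cfg ρ b q a D X w) (S : Gam ρ X V₁ V₂ A' N₁ α) {t : H} (hn : t ∈ N₁) {v : V} (hv : v ∈ V₁) :
    ρ (xt α t) v = ρ t⁻¹ v := by
  unfold xt
  rw [C.ρ_mul, S.triv₂ C hn hv]

/-- (3) `t ^ 2 = 1` for `t ∈ C_{N₁}(a)` -/
theorem sq (C : Cfg ρ b q a D X w) (S : Gam ρ X V₁ V₂ A' N₁ α) {t : H} (hn : t ∈ N₁) (ht : ρ t a = a) :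
    t * t = 1 := by
  apply C.ext
  intro v
  obtain ⟨x, hx, y, hy, rfl⟩ := S.dec v
  have h1 : ρ t⁻¹ (ρ t⁻¹ x) = x := by
    have h2 := C.X_sq _ (S.xt_mem C ht)
    have h3 : ρ (xt α t * xt α t) x = x := by rw [h2, C.ρ_one]
    rw [C.ρ_mul, S.xt_V₁ C hn hx, S.xt_V₁ C hn (S.N_V _ (N₁.inv_mem hn) x hx)] at h3
    exact h3
  have h2 : ρ t (ρ t x) = x := by
    nth_rewrite 1 [← h1]
    rw [C.ρ_apply_inv, C.ρ_apply_inv]
  rw [C.ρ_mul, map_add, map_add, h2, S.triv t hn y hy, S.triv t hn y hy, C.ρ_one]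

theorem xt_V₁' (C : Cfg ρ b q a D X w) (S : Gam ρ X V₁ V₂ A' N₁ α) {t : H} (hn : t ∈ N₁) (ht : ρ t a = a)
    {v : V} (hv : v ∈ V₁) : ρ (xt α t) v = ρ t v := by
  rw [S.xt_V₁ C hn hv, inv_eq_of_mul_eq_one_left (S.sq C hn ht)]

theorem eq_one_of_V₁ (C : Cfg ρ b q a D X w) (S : Gam ρ X V₁ V₂ A' N₁ α) {t : H} (hn : t ∈ N₁)
    (h : ∀ v ∈ V₁, ρ t v = v) : t = 1 := by
  apply C.ext
  intro v
  obtain ⟨x, hx, y, hy, rfl⟩ := S.dec v
  rw [map_add, h x hx, S.triv t hn y hy, C.ρ_one]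

theorem xt_ne (C : Cfg ρ b q a D X w) (S : Gam ρ X V₁ V₂ A' N₁ α) {t : H} (hn : t ∈ N₁) (ht : ρ t a = a)
    (h1 : t ≠ 1) : xt α t ≠ 1 := by
  intro h
  apply h1
  apply S.eq_one_of_V₁ C hn
  intro v hv
  rw [← S.xt_V₁' C hn ht hv, h, C.ρ_one]

/-- a prime-to-2 index: `C_{N₁}(a)` contains a Sylow `2`-subgroup of `N₁` -/
theorem odd_index (C : Cfg ρ b q a D X w) (S : Gam ρ X V₁ V₂ A' N₁ α) {a₁ : V} (ha : a₁ ∈ V₁) (ha0 : a₁ ≠ 0)
    (haa : a₁ + ρ α a₁ = a) (haA : ∀ x ∈ A', ρ x a₁ = a₁)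
    (hu : ∀ v ∈ V₁, (∀ x ∈ A', ρ x v = v) → v = 0 ∨ v = a₁) : Odd ((stab ρ a).relIndex N₁) := by
  classical
  have := C.finite_V
  have := C.finite_H
  have hp : Fact (Nat.Prime 2) := ⟨Nat.prime_two⟩
  have hA : IsPGroup 2 A' := C.isPGroup_X.to_le fun x hx => S.A_le x hx
  let act : MulAction N₁ V :=
    { smul := fun n v => ρ n v
      one_smul := fun v => C.ρ_one v
      mul_smul := fun g h v => C.ρ_mul _ _ v }
  have hsm : ∀ (n : N₁) (v : V), n • v = ρ n v := fun _ _ => rfl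
  have h1 : (stab ρ a).relIndex N₁ = Nat.card (MulAction.orbit N₁ a₁) := by
    rw [Nat.card_coe_set_eq, ← MulAction.index_stabilizer]
    unfold Subgroup.relIndex
    congr 1
    ext n
    rw [mem_subgroupOf, mem_stab, MulAction.mem_stabilizer_iff, hsm, ← haa, map_add,
      S.triv n n.2 _ (S.sw a₁ ha)]
    constructor
    · intro h; exact add_right_cancel h
    · intro h; rw [h]
  let O := MulAction.orbit N₁ a₁
  have hO : ∀ x ∈ A', ∀ v ∈ O, ρ x v ∈ O := by
    rintro x hx _ ⟨n, rfl⟩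
    refine ⟨⟨x * n * x⁻¹, S.A_N x hx n n.2⟩, ?_⟩
    show ρ (x * n * x⁻¹) a₁ = ρ x (ρ n a₁)
    rw [C.ρ_mul, C.ρ_mul, haA _ (A'.inv_mem hx)]
  let act' : MulAction A' O :=
    { smul := fun x v => ⟨ρ (x : H) v, hO x x.2 v v.2⟩
      one_smul := fun v => Subtype.ext (C.ρ_one _)
      mul_smul := fun g h v => Subtype.ext (C.ρ_mul _ _ _) }
  have h2 := hA.card_modEq_card_fixedPoints O
  have h3 : Nat.card (MulAction.fixedPoints A' O) = 1 := by
    rw [Nat.card_eq_one_iff_unique]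
    constructor
    · constructor
      have key : ∀ v : MulAction.fixedPoints A' O, ((v : O) : V) = a₁ := by
        intro v
        have hvV : ((v : O) : V) ∈ V₁ := by
          obtain ⟨n, hn⟩ := v.1.2
          rw [← hn]
          exact S.N_V n n.2 _ ha
        rcases hu _ hvV (fun x hx => congrArg Subtype.val (v.2 ⟨x, hx⟩)) with h | h
        · exfalso
          obtain ⟨n, hn⟩ := v.1.2
          apply ha0
          apply C.ρ_inj (n : H)
          rw [map_zero, ← h]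
          exact hn
        · exact h
      intro v v'
      apply Subtype.ext
      apply Subtype.ext
      rw [key, key]
    · refine ⟨⟨⟨a₁, MulAction.mem_orbit_self a₁⟩, ?_⟩⟩
      intro x
      apply Subtype.ext
      exact haA x x.2
  rw [h3] at h2
  rw [h1, Nat.odd_iff]
  exact h2

end Gam

/-- Burnside: in a perfect group of even order an abelian Sylow 2-subgroup is not central in its normaliser -/
theorem Gam.exists_burnside {N : Type*} [Group N] [Finite N] (hp : commutator N = ⊤) (h2 : Even (Nat.card N))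
    (P : Sylow 2 N) : ∃ n ∈ normalizer (P : Set N), ∃ t ∈ P, n * t * n⁻¹ ≠ t := by
  have : Fact (Nat.Prime 2) := ⟨Nat.prime_two⟩
  by_contra hcon
  push Not at hcon
  have hP : normalizer (P : Set N) ≤ centralizer (P : Set N) := by
    intro n hn
    rw [mem_centralizer_iff]
    intro t ht
    have h1 := hcon n hn t ht
    rw [mul_inv_eq_iff_eq_mul] at h1
    exact h1.symm
  have hab : ∀ x ∈ P, ∀ y ∈ P, x * y = y * x := by
    intro x hx y hy
    exact (mem_centralizer_iff.1 (hP (le_normalizer hx)) y hy).symm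
  have h3 := MonoidHom.not_dvd_card_ker_transferSylow P hP
  apply h3
  have h4 : (MonoidHom.transferSylow P hP).ker = ⊤ := by
    rw [eq_top_iff, ← hp, commutator_def, commutator_le]
    intro x _ y _
    rw [MonoidHom.mem_ker, map_commutatorElement, commutatorElement_eq_one_iff_mul_comm]
    apply Subtype.ext
    exact hab _ (Subtype.prop _) _ (Subtype.prop _)
  rw [h4, card_top]
  exact h2.two_dvd

namespace Gam

variable {V₁ V₂ : Submodule (ZMod 2) V} {A' N₁ : Subgroup H} {α : H}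

theorem add_mem_V₁ (C : Cfg ρ b q a D X w) (S : Gam ρ X V₁ V₂ A' N₁ α) {t : H} (hn : t ∈ N₁) (u : V) :
    ρ t u + u ∈ V₁ := by
  obtain ⟨x, hx, y, hy, rfl⟩ := S.dec u
  have e : ρ t (x + y) + (x + y) = ρ t x + x := by
    rw [map_add, S.triv t hn y hy]
    calc ρ t x + y + (x + y) = ρ t x + x + (y + y) := by abel
      _ = ρ t x + x := by rw [C.add_self, add_zero]
  rw [e]
  exact V₁.add_mem (S.N_V t hn x hx) hx

/-- (4): `a₁ ∈ [V₁, t]` -/
theorem exists_add (C : Cfg ρ b q a D X w) (S : Gam ρ X V₁ V₂ A' N₁ α) {a₁ : V} (ha : a₁ ∈ V₁)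
    (haa : a₁ + ρ α a₁ = a) {t : H} (hn : t ∈ N₁) (ht : ρ t a = a) (h1 : t ≠ 1) :
    ∃ u ∈ V₁, ρ t u + u = a₁ := by
  have := C.finite_V
  have hx1 : ρ (xt α t) ≠ 1 := fun h => S.xt_ne C hn ht h1 (C.inj (by rw [h, map_one]))
  obtain ⟨v, hv⟩ := C.sys.exists_add_eq ⟨xt α t, S.xt_mem C ht, rfl⟩ hx1
  obtain ⟨x, hx, y, hy, rfl⟩ := S.dec v
  have h2 : ρ (α * t * α⁻¹) y ∈ V₂ := by
    have h3 : ρ (α * t * α⁻¹) y + y = ρ α (ρ t (ρ α⁻¹ y) + ρ α⁻¹ y) := by
      rw [map_add, C.ρ_apply_inv, C.ρ_mul, C.ρ_mul]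
    have h4 : ρ (α * t * α⁻¹) y + y ∈ V₂ := by
      rw [h3]; exact S.sw _ (S.add_mem_V₁ C hn _)
    have h5 := V₂.add_mem h4 hy
    rwa [C.add_add_self] at h5
  have h3 : ρ (xt α t) y = ρ (α * t * α⁻¹) y := by
    unfold xt
    rw [C.ρ_mul, S.triv _ (N₁.inv_mem hn) _ h2]
  refine ⟨x, hx, ?_⟩
  have h4 : (ρ t x + x) + (ρ (α * t * α⁻¹) y + y) = a₁ + ρ α a₁ := by
    rw [haa, ← hv, map_add, S.xt_V₁' C hn ht hx, h3]
    abel
  exact (S.comp C (V₁.add_mem (S.N_V t hn x hx) hx) ha (V₂.add_mem h2 hy) (S.sw a₁ ha) h4).1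

theorem false (C : Cfg ρ b q a D X w) (S : Gam ρ X V₁ V₂ A' N₁ α) : False := by
  classical
  have := C.finite_V
  have := C.finite_H
  have hp2 : Fact (Nat.Prime 2) := ⟨Nat.prime_two⟩
  obtain ⟨a₁, ha, ha0, haa, haA, hu⟩ := S.exists_a C
  have hodd := S.odd_index C ha ha0 haa haA hu
  -- the Sylow subgroup `T = C_{N₁}(a)`
  have hT2 : IsPGroup 2 ((stab ρ a).subgroupOf N₁) := by
    intro t
    refine ⟨1, ?_⟩
    apply Subtype.ext
    apply Subtype.ext
    show ((t : N₁) : H) ^ (2 ^ 1) = 1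
    rw [pow_one, pow_two]
    exact S.sq C t.1.2 (mem_subgroupOf.1 t.2)
  have hnd : ¬ 2 ∣ ((stab ρ a).subgroupOf N₁).index := by
    have h1 : Odd ((stab ρ a).subgroupOf N₁).index := hodd
    rwa [← Nat.not_even_iff_odd, even_iff_two_dvd] at h1
  let P : Sylow 2 N₁ := hT2.toSylow hnd
  have hPm : ∀ t : N₁, t ∈ P ↔ ρ (t : H) a = a := fun t => mem_subgroupOf
  have hperf : commutator N₁ = ⊤ := by
    have h1 : (commutator N₁).map N₁.subtype = N₁ := by
      rw [commutator_def, map_commutator, ← MonoidHom.range_eq_map, range_subtype, S.perf]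
    rw [eq_top_iff]
    intro x _
    have h2 : (x : H) ∈ (commutator N₁).map N₁.subtype := by rw [h1]; exact x.2
    obtain ⟨y, hy, hyx⟩ := h2
    rwa [← Subtype.ext hyx]
  obtain ⟨n, hn, t₀, ht₀, hne⟩ := Gam.exists_burnside hperf S.even P
  have hnP : ∀ t : N₁, t ∈ P → n * t * n⁻¹ ∈ P := fun t ht => (mem_normalizer_iff.1 hn t).1 ht
  have hnP' : ∀ t : N₁, t ∈ P → n⁻¹ * t * n ∈ P := fun t ht => (mem_normalizer_iff''.1 hn t).1 ht
  -- `n` moves `a₁`
  have hc : ρ (n : H) a₁ ≠ a₁ := by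
    intro h
    have h1 : ρ (n : H) a = a := by
      rw [← haa, map_add, h, S.triv n n.2 _ (S.sw a₁ ha)]
    have h2 := S.sq C n.2 h1
    have h3 := S.sq C t₀.2 ((hPm t₀).1 ht₀)
    have h4 := S.sq C (N₁.mul_mem n.2 t₀.2) (by rw [C.ρ_mul, (hPm t₀).1 ht₀, h1])
    apply hne
    apply Subtype.ext
    show (n : H) * t₀ * (n : H)⁻¹ = t₀
    rw [inv_eq_of_mul_eq_one_left h2]
    calc (n : H) * t₀ * n = (n * t₀ * (n * t₀)) * (t₀ : H)⁻¹ := by group
      _ = (t₀ : H)⁻¹ := by rw [h4, one_mul]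
      _ = t₀ := inv_eq_of_mul_eq_one_left h3
  have hc0 : ρ (n : H) a₁ ≠ 0 := by
    intro h
    apply ha0
    apply C.ρ_inj (n : H)
    rw [h, map_zero]
  have key2 : ∀ t : H, t ∈ N₁ → ρ t a = a → t ≠ 1 → ∃ u ∈ V₁, ρ t u + u = ρ (n : H) a₁ := by
    intro t htN hta ht1
    have h1 : n⁻¹ * ⟨t, htN⟩ * n ∈ P := hnP' ⟨t, htN⟩ ((hPm _).2 hta)
    have h2 : (n : H)⁻¹ * t * n ≠ 1 := by
      intro h
      apply ht1
      calc t = n * ((n : H)⁻¹ * t * n) * (n : H)⁻¹ := by group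
        _ = 1 := by rw [h]; group
    obtain ⟨u, hu1, hu2⟩ := S.exists_add C ha haa (N₁.mul_mem (N₁.mul_mem (N₁.inv_mem n.2) htN) n.2)
      ((hPm _).1 h1) h2
    refine ⟨ρ (n : H) u, S.N_V n n.2 u hu1, ?_⟩
    rw [← hu2, map_add, ← C.ρ_mul, ← C.ρ_mul]
    congr 3
    group
  -- a vector of `V₁` off `a^⊥`
  obtain ⟨v, hvV, hv⟩ : ∃ v ∈ V₁, b a v = 1 := by
    have h1 : ∃ u, b a₁ u = 1 := by
      by_contra hcon
      push Not at hcon
      apply ha0
      apply C.nondeg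
      intro u
      rcases zmod_two (b a₁ u) with h | h
      · exact h
      · exact absurd h (hcon u)
    obtain ⟨u, hu1⟩ := h1
    obtain ⟨x, hx, y, hy, rfl⟩ := S.dec u
    refine ⟨x, hx, ?_⟩
    rw [map_add, S.perp C ha hy, add_zero] at hu1
    rw [← haa, map_add, LinearMap.add_apply, hu1, C.b_comm (ρ α a₁), S.perp C hx (S.sw a₁ ha), add_zero]
  have hDV : ∀ d ∈ D, d ∈ V₁ → d = 0 ∨ d = a₁ := by
    intro d hd hdV
    apply hu d hdV
    intro x hx
    rcases C.X_D x (S.A_le x hx) d hd with h | h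
    · exact h
    · exfalso
      have h1 := S.A_V x hx d hdV
      rw [h] at h1
      have h2 : a ∈ V₁ := by
        have h3 := V₁.add_mem hdV h1
        rwa [← add_assoc, C.add_self, zero_add] at h3
      have h3 : ρ α a₁ ∈ V₁ := by
        have h4 := V₁.add_mem ha h2
        rwa [← haa, ← add_assoc, C.add_self, zero_add] at h4
      have h4 := S.inter h3 (S.sw a₁ ha)
      apply ha0
      apply C.ρ_inj α
      rw [h4, map_zero]
  have hperp : ∀ t : H, t ∈ N₁ → ρ t a = a → ∀ m ∈ V₁, b a m = 0 → ρ t m + m ∈ D ∧ ρ t m + m ∈ V₁ := by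
    intro t htN hta m hm hbm
    have h1 := C.X_perp _ (S.xt_mem C hta) m hbm
    rw [S.xt_V₁' C htN hta hm] at h1
    exact ⟨h1, V₁.add_mem (S.N_V t htN m hm) hm⟩
  have hone : ∀ t : H, t ∈ N₁ → ρ t a = a → ∀ u ∈ V₁, b a u = 1 →
      ∃ m ∈ V₁, b a m = 0 ∧ ρ t u + u = (ρ t m + m) + (ρ t v + v) := by
    intro t _ _ u huV hbu
    refine ⟨u + v, V₁.add_mem huV hvV, by rw [map_add, hbu, hv]; exact CharTwo.add_self_eq_zero 1, ?_⟩
    rw [map_add]
    calc ρ t u + u = ρ t u + u + (ρ t v + ρ t v) + (v + v) := by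
          rw [C.add_self, C.add_self, add_zero, add_zero]
      _ = _ := by abel
  -- `a₁ ∈ D`
  have ht₀1 : (t₀ : H) ≠ 1 := by
    intro h
    apply hne
    have h1 : t₀ = 1 := Subtype.ext h
    rw [h1]; group
  have ha₁D : a₁ ∈ D := by
    by_contra hD
    have h1 : ∀ m ∈ V₁, b a m = 0 → ρ (t₀ : H) m + m = 0 := by
      intro m hm hbm
      obtain ⟨h2, h3⟩ := hperp t₀ t₀.2 ((hPm t₀).1 ht₀) m hm hbm
      rcases hDV _ h2 h3 with h | h
      · exact h
      · exact absurd (h ▸ h2) hD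
    have h2 : ∀ u ∈ V₁, ρ (t₀ : H) u + u = 0 ∨ ρ (t₀ : H) u + u = ρ (t₀ : H) v + v := by
      intro u huV
      rcases zmod_two (b a u) with h | h
      · exact Or.inl (h1 u huV h)
      · obtain ⟨m, hm, hbm, he⟩ := hone t₀ t₀.2 ((hPm t₀).1 ht₀) u huV h
        right
        rw [he, h1 m hm hbm, zero_add]
    obtain ⟨u, huV, hu1⟩ := S.exists_add C ha haa t₀.2 ((hPm t₀).1 ht₀) ht₀1
    obtain ⟨u', huV', hu1'⟩ := key2 t₀ t₀.2 ((hPm t₀).1 ht₀) ht₀1
    have e1 := (h2 u huV).resolve_left (by rw [hu1]; exact ha0)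
    have e2 := (h2 u' huV').resolve_left (by rw [hu1']; exact hc0)
    apply hc
    rw [← hu1', e2, ← e1, hu1]
  -- `(t - 1) v ∈ {c, c + a₁}`
  have hs : ∀ t : H, t ∈ N₁ → ρ t a = a → t ≠ 1 →
      ρ t v + v = ρ (n : H) a₁ ∨ ρ t v + v = ρ (n : H) a₁ + a₁ := by
    intro t htN hta ht1
    obtain ⟨u, huV, hu1⟩ := key2 t htN hta ht1
    rcases zmod_two (b a u) with h | h
    · exfalso
      obtain ⟨h2, h3⟩ := hperp t htN hta u huV h
      rcases hDV _ h2 h3 with h4 | h4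
      · exact hc0 (by rw [← hu1, h4])
      · exact hc (by rw [← hu1, h4])
    · obtain ⟨m, hm, hbm, he⟩ := hone t htN hta u huV h
      obtain ⟨h2, h3⟩ := hperp t htN hta m hm hbm
      rw [← hu1, he]
      rcases hDV _ h2 h3 with h4 | h4
      · left; rw [h4, zero_add]
      · right
        rw [h4, add_comm a₁, C.add_add_self]
  have hfixc : ∀ t : H, t ∈ N₁ → ρ t a = a → t ≠ 1 → ρ t (ρ (n : H) a₁) = ρ (n : H) a₁ := by
    intro t htN hta ht1
    obtain ⟨u, huV, hu1⟩ := key2 t htN hta ht1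
    rw [← hu1, map_add, ← C.ρ_mul, S.sq C htN hta, C.ρ_one, add_comm]
  have hfixa : ∀ t : H, t ∈ N₁ → ρ t a = a → ρ t a₁ = a₁ := by
    intro t htN hta
    rw [← haa, map_add, S.triv t htN _ (S.sw a₁ ha)] at hta
    exact add_right_cancel hta
  have huniq : ∀ t : H, t ∈ N₁ → ρ t a = a → t ≠ 1 → ∀ t' : H, t' ∈ N₁ → ρ t' a = a → t' ≠ 1 → t = t' := by
    intro t htN hta ht1 t' htN' hta' ht1'
    have h1 : ρ t (ρ t' v + v) = ρ t' v + v := by
      rcases hs t' htN' hta' ht1' with h | h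
      · rw [h, hfixc t htN hta ht1]
      · rw [h, map_add, hfixc t htN hta ht1, hfixa t htN hta]
    have hV' : ρ t' v + v ∈ V₁ := V₁.add_mem (S.N_V t' htN' v hvV) hvV
    have h2 : ρ (xt α t * xt α t') v + v ∈ D := by
      have h3 : ρ (xt α t * xt α t') v + v = (ρ t' v + v) + (ρ t v + v) := by
        rw [C.ρ_mul, S.xt_V₁' C htN' hta' hvV, S.xt_V₁' C htN hta (S.N_V t' htN' v hvV)]
        have h4 : ρ t (ρ t' v) = (ρ t' v + v) + ρ t v := by
          rw [← h1, map_add, C.add_add_self]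
        rw [h4, add_assoc]
      rw [h3]
      rcases hs t htN hta ht1 with h | h <;> rcases hs t' htN' hta' ht1' with h' | h'
      · rw [h, h', C.add_self]; exact D.zero_mem
      · rw [h, h', add_comm (ρ (n : H) a₁) a₁, add_assoc, C.add_self, add_zero]; exact ha₁D
      · rw [h, h', ← add_assoc, C.add_self, zero_add]; exact ha₁D
      · rw [h, h', C.add_self]; exact D.zero_mem
    have h3 := C.X_semi _ (X.mul_mem (S.xt_mem C hta) (S.xt_mem C hta')) v hv h2
    have h4 : xt α t = xt α t' := by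
      rw [← C.X_inv (S.xt_mem C hta')]
      exact eq_inv_of_mul_eq_one_left h3
    have h5 : t'⁻¹ * t = 1 := by
      apply S.eq_one_of_V₁ C (N₁.mul_mem (N₁.inv_mem htN') htN)
      intro u huV
      rw [C.ρ_mul, ← S.xt_V₁' C htN hta huV, h4, S.xt_V₁' C htN' hta' huV, C.ρ_inv_apply]
    exact (inv_mul_eq_one.1 h5).symm
  apply hne
  apply Subtype.ext
  refine huniq _ (N₁.mul_mem (N₁.mul_mem n.2 t₀.2) (N₁.inv_mem n.2)) ((hPm _).1 (hnP t₀ ht₀)) ?_
    t₀ t₀.2 ((hPm t₀).1 ht₀) ht₀1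
  intro h
  apply ht₀1
  calc (t₀ : H) = (n : H)⁻¹ * (n * t₀ * (n : H)⁻¹) * n := by group
    _ = (n : H)⁻¹ * 1 * n := by rw [show (n : H) * t₀ * (n : H)⁻¹ = 1 from h]
    _ = 1 := by group

end Gam

/-- **(G)** -/
theorem gamma_false (C : Cfg ρ b q a D X w) (V₁ V₂ : Submodule (ZMod 2) V) (hV : IsCompl V₁ V₂)
    (A' N₁ N₂ : Subgroup H) (hA : A' ≤ X) (hidx : A'.relIndex X = 2)
    (hA₁ : ∀ x ∈ A', ∀ v ∈ V₁, ρ x v ∈ V₁) (hsw : ∀ x ∈ X, x ∉ A' → ∀ v ∈ V₁, ρ x v ∈ V₂)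
    (hcomm : ∀ x ∈ N₁, ∀ y ∈ N₂, x * y = y * x) (hAN : A' ≤ normalizer (N₁ : Set H))
    (hN : ∀ x ∈ X, x ∉ A' → N₁.map (MulAut.conj x).toMonoidHom = N₂)
    (hinv : ∀ n ∈ N₁, ∀ v ∈ V₁, ρ n v ∈ V₁) (htriv : ∀ n ∈ N₁, ∀ v ∈ V₂, ρ n v = v)
    (hperf : ⁅N₁, N₁⁆ = N₁) (hne : N₁ ≠ ⊥) (hev : Even (Nat.card N₁)) : False := by
  obtain ⟨α, hα, hαA, hcs⟩ := relIndex_eq_two_iff_exists_notMem_and.1 hidx
  refine Gam.false (V₁ := V₁) (V₂ := V₂) (A' := A') (N₁ := N₁) (α := α) C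
    { compl := hV
      A_le := fun x hx => hA hx
      α_mem := hα
      cases := hcs
      A_V := hA₁
      sw := hsw α hα hαA
      comm := fun n hn m hm => hcomm n hn _ ?_
      A_N := fun x hx n hn => (mem_normalizer_iff.1 (hAN hx) n).1 hn
      N_V := hinv
      triv := htriv
      perf := hperf
      ne := hne
      even := hev }
  rw [← hN α hα hαA]
  exact ⟨m, hm, rfl⟩

end Cfsg.Agent.Omega.EH3.Clif

end

section


/-!
# Clifford step of EH3, piece (L) (helper947 for helper291)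

`card_cent_le_of_semisimple` : in the configuration `Cfg` let `N₁ ≠ 1` be a perfect subgroup of `H` normalised by `X`
such that every minimal `N₁`-invariant, `X`-invariant subspace `U ∋ a` has an `N₁`-homomorphism `φ : U → V` whose
image is not orthogonal to `U`.  Then `|C_X(N₁)| ≤ 2`.
-/

set_option autoImplicit false

namespace Cfsg.Agent.Omega.EH3.Clif

open Subgroup Module Cfsg.Agent.Omega.W5.NearTI Cfsg.Agent.Omega.W5.Parity

theorem CentOne.card_le_two {H : Type*} [Group H] [Finite H] {Y : Subgroup H}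
    (key : ∀ f ∈ Y, ∀ g ∈ Y, f ≠ 1 → g ≠ 1 → f = g) : Nat.card Y ≤ 2 := by
  classical
  have hinj : Function.Injective fun f : Y => (decide (f = 1) : Bool) := by
    intro f g hfg
    by_cases hf : f = 1
    · by_cases hg : g = 1
      · rw [hf, hg]
      · simp [hf, hg] at hfg
    · by_cases hg : g = 1
      · simp [hf, hg] at hfg
      · exact Subtype.ext (key f f.2 g g.2 (fun h => hf (Subtype.ext h)) fun h => hg (Subtype.ext h))
  have h3 := Nat.card_le_card_of_injective _ hinj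
  simpa using h3

theorem CentOne.eq_bot_of_perfect_two {H : Type*} [Group H] [Finite H] {N : Subgroup H} (hN : ⁅N, N⁆ = N)
    (h2 : IsPGroup 2 N) : N = ⊥ := by
  have : Fact (Nat.Prime 2) := ⟨Nat.prime_two⟩
  by_contra hne
  have : Nontrivial N := (Subgroup.nontrivial_iff_ne_bot N).2 hne
  have : Group.IsNilpotent N := h2.isNilpotent
  have h3 : commutator N = ⊤ := by
    apply Subgroup.map_injective N.subtype_injective
    rw [Subgroup.map_subtype_commutator, hN, ← MonoidHom.range_eq_map, Subgroup.range_subtype]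
  exact (Group.IsSolvable.commutator_lt_top_of_nontrivial N).ne h3

variable {H V : Type*} [Group H] [AddCommGroup V] [Module (ZMod 2) V]
  {ρ : H →* (V ≃ₗ[ZMod 2] V)} {b : LinearMap.BilinForm (ZMod 2) V} {q : V → ZMod 2}
  {a : V} {D : Submodule (ZMod 2) V} {X : Subgroup H} {w : ℕ}

/-- **(L)** -/
theorem card_cent_le_of_semisimple (C : Cfg ρ b q a D X w) {N₁ : Subgroup H}
    (hX : X ≤ normalizer (N₁ : Set H)) (hperf : ⁅N₁, N₁⁆ = N₁) (hne : N₁ ≠ ⊥)
    (hiso : ∀ U : Submodule (ZMod 2) V, a ∈ U → (∀ n ∈ N₁, ∀ v ∈ U, ρ n v ∈ U) →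
      (∀ x ∈ X, ∀ v ∈ U, ρ x v ∈ U) →
      (∀ W : Submodule (ZMod 2) V, W ≤ U → (∀ n ∈ N₁, ∀ v ∈ W, ρ n v ∈ W) → W = ⊥ ∨ W = U) →
      ∃ φ : V →ₗ[ZMod 2] V, (∀ n ∈ N₁, ∀ u ∈ U, φ (ρ n u) = ρ n (φ u)) ∧
        ∃ u ∈ U, ∃ u' ∈ U, b (φ u) u' ≠ 0) :
    Nat.card ↥(X ⊓ centralizer (N₁ : Set H)) ≤ 2 := by
  classical
  have := C.finite_H
  have := C.finite_V
  apply CentOne.card_le_two
  rintro f ⟨hf, hfc⟩ g ⟨hg, hgc⟩ hf1 hg1
  by_contra hfg
  have hXN : ∀ x ∈ X, ∀ n ∈ N₁, x * n * x⁻¹ ∈ N₁ := fun x hx n hn => (mem_normalizer_iff.1 (hX hx) n).1 hn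
  have S := C.norX hXN hf hg hf1 hg1 hfg (fun n hn => mem_centralizer_iff.1 hfc n hn)
    (fun n hn => mem_centralizer_iff.1 hgc n hn)
  have hNp : ⁅N₁.map ρ, N₁.map ρ⁆ = N₁.map ρ := by rw [← map_commutator, hperf]
  -- the space `W₀` spanned by the orbit
  set W₀ := U (N₁.map ρ) a with hW₀
  have haW : a ∈ W₀ := self_mem a
  have hNW : ∀ n ∈ N₁, ∀ v ∈ W₀, ρ n v ∈ W₀ := fun n hn v hv =>
    U_inv (N := N₁.map ρ) (n := ρ n) ⟨n, hn, rfl⟩ hv
  have hXW : ∀ x ∈ X, ∀ v ∈ W₀, ρ x v ∈ W₀ := by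
    intro x hx v hv
    rcases (mem_U S.cl).1 hv with rfl | ⟨_, ⟨n, hn, rfl⟩, rfl⟩
    · rw [map_zero]; exact W₀.zero_mem
    · have e : ρ x (ρ n a) = ρ (x * n * x⁻¹) a := by
        rw [C.ρ_mul, C.ρ_mul, C.X_a (X.inv_mem hx)]
      rw [e]
      exact hNW _ (hXN x hx n hn) a haW
  have hmin : ∀ W : Submodule (ZMod 2) V, W ≤ W₀ → (∀ n ∈ N₁, ∀ v ∈ W, ρ n v ∈ W) → W = ⊥ ∨ W = W₀ := by
    intro W hW hinv
    by_cases h0 : W = ⊥
    · exact Or.inl h0
    · right
      obtain ⟨v, hv, hv0⟩ := Submodule.exists_mem_ne_zero_of_ne_bot h0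
      rcases (mem_U S.cl).1 (hW hv) with h | ⟨_, ⟨n, hn, rfl⟩, rfl⟩
      · exact absurd h hv0
      · have haW' : a ∈ W := by
          have := hinv _ (N₁.inv_mem hn) _ hv
          rwa [C.ρ_inv_apply] at this
        apply le_antisymm hW
        apply Submodule.span_le.2
        rintro _ ⟨_, ⟨m, hm, rfl⟩, rfl⟩
        exact hinv m hm a haW'
  obtain ⟨φ, hφ, u, hu, u', hu', hb⟩ := hiso W₀ haW hNW hXW hmin
  rcases Nat.lt_or_ge (finrank (ZMod 2) W₀) 3 with h3 | h3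
  · -- `N₁` fixes `a`
    have hfix : ∀ n ∈ N₁, ρ n a = a := fun n hn =>
      fix_of_perfect hNp C.a_ne (Nat.le_of_lt_succ h3) ⟨n, hn, rfl⟩
    have hW1 : ∀ v ∈ W₀, v = 0 ∨ v = a := by
      intro v hv
      rcases (mem_U S.cl).1 hv with rfl | ⟨_, ⟨n, hn, rfl⟩, rfl⟩
      · exact Or.inl rfl
      · exact Or.inr (hfix n hn)
    have hua : u = a := by
      rcases hW1 u hu with rfl | h
      · exact absurd (by rw [map_zero, map_zero, LinearMap.zero_apply]) hb
      · exact h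
    have hua' : u' = a := by
      rcases hW1 u' hu' with rfl | h
      · exact absurd (by rw [map_zero]) hb
      · exact h
    subst hua
    rw [hua'] at hb
    have hc : b u (φ u) = 1 := by rw [C.b_comm]; exact zmod_two_ne hb
    have hfc' : ∀ n ∈ N₁, ρ n (φ u) = φ u := by
      intro n hn
      rw [← hφ n hn u hu, hfix n hn]
    apply hne
    apply CentOne.eq_bot_of_perfect_two hperf
    have hcent : N₁ ≤ centralizer (X : Set H) := by
      intro n hn
      rw [mem_centralizer_iff]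
      intro x hx
      have h1 : x * n * x⁻¹ * n⁻¹ ∈ X := by
        have h2 := C.X_norm n (hfix n hn) x⁻¹ (X.inv_mem hx)
        have e : x * n * x⁻¹ * n⁻¹ = x * (n * x⁻¹ * n⁻¹) := by group
        rw [e]
        exact X.mul_mem hx h2
      have h2 : x * n * x⁻¹ * n⁻¹ ∈ N₁ := N₁.mul_mem (hXN x hx n hn) (N₁.inv_mem hn)
      have h3 := C.opp h1 hc (hfc' _ h2)
      calc x * n = (x * n * x⁻¹ * n⁻¹) * (n * x) := by group
        _ = n * x := by rw [h3, one_mul]
    exact C.isPGroup_cent.to_le hcent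
  · -- `N₁` induces all transvections
    have hS : ∀ {c : V}, c ∈ W₀ → c ≠ 0 → ∀ ψ : V →ₗ[ZMod 2] ZMod 2, ψ c = 0 →
        ∃ n ∈ N₁, ∀ x ∈ W₀, ρ n x = x + ψ x • c := by
      intro c hc hc0 ψ hψ
      obtain ⟨_, ⟨n, hn, rfl⟩, h⟩ := S.exists_transv_three h3 hc hc0 ψ hψ
      exact ⟨n, hn, h⟩
    have key : ∀ c ∈ W₀, c ≠ 0 → ∀ y ∈ W₀, y ≠ 0 → y ≠ c → b (φ c) y = 0 := by
      intro c hc hc0 y hy hy0 hyc
      obtain ⟨x, hx, hx'⟩ := NorX.exists_out (e := a) (N := N₁.map ρ) h3 c y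
      obtain ⟨ψ, h1, h2⟩ := Submodule.exists_le_ker_of_notMem hx'
      have h4 : ψ c = 0 := h2 (Submodule.subset_span (Set.mem_insert _ _))
      have h5 : ψ y = 0 := h2 (Submodule.subset_span (Set.mem_insert_of_mem _ rfl))
      obtain ⟨n, hn, hn'⟩ := hS hc hc0 ψ h4
      have h6 := C.b_inv n (φ x) y
      rw [← hφ n hn x hx, hn' x hx, hn' y hy, h5, zmod_two_ne h1, zero_smul, add_zero, one_smul,
        map_add, map_add, LinearMap.add_apply] at h6
      exact add_eq_left.1 h6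
    have hzero : ∀ c ∈ W₀, ∀ y ∈ W₀, b (φ c) y = 0 := by
      intro c hc y hy
      by_cases hc0 : c = 0
      · rw [hc0, map_zero, map_zero, LinearMap.zero_apply]
      by_cases hy0 : y = 0
      · rw [hy0, map_zero]
      by_cases hyc : y = c
      · subst hyc
        obtain ⟨z, hz, hz'⟩ := NorX.exists_out (e := a) (N := N₁.map ρ) h3 y y
        have hz0 : z ≠ 0 := fun h => hz' (h ▸ Submodule.zero_mem _)
        have hzy : z ≠ y := fun h => hz' (h ▸ Submodule.subset_span (Set.mem_insert _ _))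
        have h4 := key y hc hc0 z hz hz0 hzy
        have h5 := key y hc hc0 (z + y) (W₀.add_mem hz hy) (fun h => hzy (C.add_eq_zero.1 h))
          (fun h => hz0 (add_eq_right.1 h))
        rw [map_add, h4, zero_add] at h5
        exact h5
      · exact key c hc hc0 y hy hy0 hyc
    exact hb (hzero u hu u' hu')

end Cfsg.Agent.Omega.EH3.Clif

end
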